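import Mathlib
import Groth.Prelude.Def_SheafNL

/-!
# Base change maps of naive cotangent complexes: independence of choices
-/

set_option autoImplicit false
set_option linter.style.haveILetI false
set_option backward.isDefEq.respectTransparency.types false

universe u

open TensorProduct Algebra

namespace Groth.Agent.NLBC

variable {R S R' S' : Type u} [CommRing R] [CommRing S] [CommRing R'] [CommRing S']
  [Algebra R S] [Algebra R' S'] [Algebra R R'] [Algebra S S'] [Algebra R S']
  [IsScalarTower R R' S'] [IsScalarTower R S S']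
  {P Q : Extension.{u} R S} {P' Q' : Extension.{u} R' S'}

/-- The linear extension to `S'` of the map on conormal modules. -/
noncomputable abbrev bcLift (f : P.Hom P') : S' ⊗[S] P.Cotangent →ₗ[S'] P'.Cotangent :=
  LinearMap.liftBaseChange S' (Extension.Cotangent.map f)

/-- The linear extension to `S'` of the map on cotangent spaces. -/
noncomputable abbrev bcLiftSp (f : P.Hom P') : S' ⊗[S] P.CotangentSpace →ₗ[S'] P'.CotangentSpace :=
  LinearMap.liftBaseChange S' (Extension.CotangentSpace.map f)

theorem cotangentComplex_bcLift (f : P.Hom P') (x : S' ⊗[S] P.Cotangent) :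
    P'.cotangentComplex (bcLift f x) = bcLiftSp f (P.cotangentComplex.baseChange S' x) := by
  induction x with
  | zero => simp
  | add x y hx hy => simp only [map_add, hx, hy]
  | tmul s x => simp [Extension.CotangentSpace.map_cotangentComplex]

theorem bcLift_sub (f g : P.Hom P') (x : S' ⊗[S] P.Cotangent) :
    bcLift f x - bcLift g x = LinearMap.liftBaseChange S' (f.sub g) (P.cotangentComplex.baseChange S' x) := by
  induction x with
  | zero => simp
  | add x y hx hy => simp only [map_add, ← hx, ← hy]; abel
  | tmul s x =>
    have h := LinearMap.congr_fun (Extension.Cotangent.map_sub_map f g) x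
    rw [LinearMap.sub_apply, LinearMap.comp_apply] at h
    simp only [LinearMap.liftBaseChange_tmul, LinearMap.baseChange_tmul, ← smul_sub, h]

theorem bcLiftSp_sub (f g : P.Hom P') (x : S' ⊗[S] P.CotangentSpace) :
    bcLiftSp f x - bcLiftSp g x = P'.cotangentComplex (LinearMap.liftBaseChange S' (f.sub g) x) := by
  induction x with
  | zero => simp
  | add x y hx hy => simp only [map_add, ← hx, ← hy]; abel
  | tmul s x =>
    have h := LinearMap.congr_fun (Extension.CotangentSpace.map_sub_map f g) x
    rw [LinearMap.sub_apply, LinearMap.comp_apply, LinearMap.restrictScalars_apply] at h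
    simp only [LinearMap.liftBaseChange_tmul, map_smul, ← smul_sub, h]

theorem bcH1Map_val (f : P.Hom P') (x : NLCx.bcH1 P S') : (NLCx.bcH1Map f x).1 = bcLift f x.1 := rfl

theorem bcH1Map_eq (f g : P.Hom P') : NLCx.bcH1Map (S' := S') f = NLCx.bcH1Map g := by
  refine LinearMap.ext fun x => Subtype.ext (sub_eq_zero.1 ?_)
  show bcLift f x.1 - bcLift g x.1 = 0
  rw [bcLift_sub, show P.cotangentComplex.baseChange S' x.1 = 0 from LinearMap.mem_ker.1 x.2, map_zero]

theorem bcLift_comp_target (f : P.Hom P') (g : P'.Hom Q') (x : S' ⊗[S] P.Cotangent) :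
    bcLift (g.comp f) x = Extension.Cotangent.map g (bcLift f x) := by
  induction x with
  | zero => simp
  | add x y hx hy => simp only [map_add, hx, hy]
  | tmul s x => simp [Extension.Cotangent.map_comp]

theorem bcLift_comp_source (f : P.Hom Q) (g : Q.Hom Q') (x : S' ⊗[S] P.Cotangent) :
    bcLift (g.comp f) x = bcLift g ((Extension.Cotangent.map f).baseChange S' x) := by
  induction x with
  | zero => simp
  | add x y hx hy => simp only [map_add, hx, hy]
  | tmul s x => simp [Extension.Cotangent.map_comp]

theorem cotangentComplex_baseChange_map (f : P.Hom Q) (x : S' ⊗[S] P.Cotangent) :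
    Q.cotangentComplex.baseChange S' ((Extension.Cotangent.map f).baseChange S' x) =
      (Extension.CotangentSpace.map f).baseChange S' (P.cotangentComplex.baseChange S' x) := by
  induction x with
  | zero => simp
  | add x y hx hy => simp only [map_add, hx, hy]
  | tmul s x => simp [Extension.CotangentSpace.map_cotangentComplex]

theorem baseChange_sub (f g : P.Hom Q) (x : S' ⊗[S] P.Cotangent) :
    (Extension.Cotangent.map f).baseChange S' x - (Extension.Cotangent.map g).baseChange S' x =
      (f.sub g).baseChange S' (P.cotangentComplex.baseChange S' x) := by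
  induction x with
  | zero => simp
  | add x y hx hy => simp only [map_add, ← hx, ← hy]; abel
  | tmul s x =>
    have h := LinearMap.congr_fun (Extension.Cotangent.map_sub_map f g) x
    rw [LinearMap.sub_apply, LinearMap.comp_apply] at h
    simp only [LinearMap.baseChange_tmul, ← tmul_sub, h]

theorem baseChange_map_comp (f : P.Hom Q) (g : Q.Hom P) (x : S' ⊗[S] P.Cotangent) :
    (Extension.Cotangent.map (g.comp f)).baseChange S' x =
      (Extension.Cotangent.map g).baseChange S' ((Extension.Cotangent.map f).baseChange S' x) := by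
  induction x with
  | zero => simp
  | add x y hx hy => simp only [map_add, hx, hy]
  | tmul s x => simp [Extension.Cotangent.map_comp]

variable (S')

/-- The map on the tensored `H^{-1}` induced by a morphism of extensions of the same algebra. -/
noncomputable def bcH1Res (f : P.Hom Q) : NLCx.bcH1 P S' →ₗ[S'] NLCx.bcH1 Q S' :=
  ((Extension.Cotangent.map f).baseChange S').restrict fun x hx => by
    simp only [NLCx.bcH1, LinearMap.mem_ker] at hx ⊢
    rw [cotangentComplex_baseChange_map, hx, map_zero]

theorem bcH1Res_comp_self (f : P.Hom Q) (g : Q.Hom P) (x : NLCx.bcH1 P S') :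
    bcH1Res S' g (bcH1Res S' f x) = x := by
  refine Subtype.ext ?_
  show (Extension.Cotangent.map g).baseChange S' ((Extension.Cotangent.map f).baseChange S' x.1) = x.1
  rw [← baseChange_map_comp, ← sub_eq_zero]
  have h := baseChange_sub (g.comp f) (Extension.Hom.id P) x.1
  rw [show P.cotangentComplex.baseChange S' x.1 = 0 from LinearMap.mem_ker.1 x.2, map_zero,
    Extension.Cotangent.map_id, LinearMap.baseChange_id] at h
  exact h

/-- The tensored `H^{-1}` does not depend on the extension. -/
noncomputable def bcH1Equiv (f : P.Hom Q) (g : Q.Hom P) : NLCx.bcH1 P S' ≃ₗ[S'] NLCx.bcH1 Q S' :=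
  { bcH1Res S' f with
    invFun := bcH1Res S' g
    left_inv := bcH1Res_comp_self S' f g
    right_inv := bcH1Res_comp_self S' g f }

variable {S'}

/-- Change of both extensions: the base change maps on `H^{-1}` correspond. -/
theorem bcH1Map_conj (a : P.Hom Q) (a' : Q.Hom P) (b : P'.Hom Q') (b' : Q'.Hom P') (f : P.Hom P')
    (g : Q.Hom Q') (x : NLCx.bcH1 P S') :
    NLCx.bcH1Map g (bcH1Equiv S' a a' x) = Extension.H1Cotangent.equiv b b' (NLCx.bcH1Map f x) := by
  refine Subtype.ext ?_
  show bcLift g ((Extension.Cotangent.map a).baseChange S' x.1) = Extension.Cotangent.map b (bcLift f x.1)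
  rw [← bcLift_comp_source, ← bcLift_comp_target]
  exact congrArg Subtype.val (LinearMap.congr_fun (bcH1Map_eq (g.comp a) (b.comp f)) x)

theorem bcH1Map_surjective_congr (a : P.Hom Q) (a' : Q.Hom P) (b : P'.Hom Q') (b' : Q'.Hom P') (f : P.Hom P')
    (g : Q.Hom Q') (h : Function.Surjective (NLCx.bcH1Map (S' := S') f)) :
    Function.Surjective (NLCx.bcH1Map (S' := S') g) := fun y => by
  obtain ⟨x, hx⟩ := h ((Extension.H1Cotangent.equiv b b').symm y)
  exact ⟨bcH1Equiv S' a a' x, by rw [bcH1Map_conj a a' b b' f g, hx, LinearEquiv.apply_symm_apply]⟩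

/-- The kernel of the base change map on `H^{-1}` does not depend on the extensions. -/
noncomputable def kerEquiv (a : P.Hom Q) (a' : Q.Hom P) (b : P'.Hom Q') (b' : Q'.Hom P') (f : P.Hom P')
    (g : Q.Hom Q') :
    LinearMap.ker (NLCx.bcH1Map (S' := S') f) ≃ₗ[S'] LinearMap.ker (NLCx.bcH1Map (S' := S') g) :=
  (bcH1Equiv S' a a').ofSubmodules _ _ (by
    ext y
    obtain ⟨x, rfl⟩ := (bcH1Equiv S' a a').surjective y
    simp only [Submodule.mem_map_equiv, LinearEquiv.symm_apply_apply, LinearMap.mem_ker]
    rw [bcH1Map_conj a a' b b' f g, LinearEquiv.map_eq_zero_iff])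

end Groth.Agent.NLBC
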