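import Mathlib
import Groth.Agent.NLBC.Basic
import Groth.Agent.EtGlue7.Flat

/-!
# Base change of the naive cotangent complex of a polynomial presentation
-/

set_option autoImplicit false
set_option linter.style.haveILetI false
set_option backward.isDefEq.respectTransparency.types false

universe u

open TensorProduct Algebra

namespace Groth.Agent.NLBC

variable {R S R' S' : Type u} [CommRing R] [CommRing S] [CommRing R'] [CommRing S']
  [Algebra R S] [Algebra R' S'] [Algebra R R'] [Algebra S S'] [Algebra R S']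
  [IsScalarTower R R' S'] [IsScalarTower R S S']
  {ι : Type u} (G : Generators R S ι) (G' : Generators R' S' ι)

/-- The identification of the polynomial ring over `R'` with the tensor product. -/
noncomputable abbrev pT (R R' : Type u) [CommRing R] [CommRing R'] [Algebra R R'] (ι : Type u) :
    R' ⊗[R] MvPolynomial ι R ≃ₐ[R'] MvPolynomial ι R' :=
  MvPolynomial.algebraTensorAlgEquiv R R'

/-- The kernel of a presentation as an `R`-submodule of the polynomial ring. -/
noncomputable abbrev kerR : Submodule R (MvPolynomial ι R) := Submodule.restrictScalars R (G.ker : Ideal (MvPolynomial ι R))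

section
variable (h : ∀ i, G'.val i = algebraMap S S' (G.val i))
include h

theorem sameVarsHom_apply (p : MvPolynomial ι R) :
    (NLCx.sameVarsHom G G' h).toAlgHom p = MvPolynomial.map (algebraMap R R') p := by
  induction p using MvPolynomial.induction_on with
  | C a => rw [Generators.Hom.toAlgHom_C, MvPolynomial.map_C]
  | add p q hp hq => simp only [map_add, hp, hq]
  | mul_X p i hp => simp only [map_mul, hp, MvPolynomial.map_X, Generators.Hom.toAlgHom_X]; rfl

theorem pT_one_tmul (p : MvPolynomial ι R) :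
    pT R R' ι (1 ⊗ₜ[R] p) = (NLCx.sameVarsHom G G' h).toAlgHom p := by
  rw [sameVarsHom_apply G G' h, MvPolynomial.algebraTensorAlgEquiv_tmul, one_smul]

theorem aeval_pT (x : R' ⊗[R] MvPolynomial ι R) [Algebra.IsPushout R R' S S'] :
    MvPolynomial.aeval G'.val ((pT R R' ι) x) =
      Algebra.IsPushout.equiv R R' S S' ((MvPolynomial.aeval G.val).toLinearMap.lTensor R' x) := by
  induction x with
  | zero => simp
  | add x y hx hy => simp only [map_add, hx, hy]
  | tmul r p =>
    have h1 : MvPolynomial.aeval (R := R) G'.val p = algebraMap S S' (MvPolynomial.aeval G.val p) := by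
      rw [show G'.val = fun i => algebraMap S S' (G.val i) from funext h]
      exact (DFunLike.congr_fun (MvPolynomial.comp_aeval G.val (IsScalarTower.toAlgHom R S S')) p).symm
    rw [MvPolynomial.algebraTensorAlgEquiv_tmul, map_smul, MvPolynomial.aeval_map_algebraMap, LinearMap.lTensor_tmul,
      AlgHom.toLinearMap_apply, Algebra.IsPushout.equiv_tmul, h1, Algebra.smul_def]

variable [Algebra.IsPushout R R' S S']

theorem mem_ker_iff (y : MvPolynomial ι R') :
    y ∈ G'.ker ↔ ∃ z : R' ⊗[R] kerR G, (pT R R' ι) ((kerR G).subtype.lTensor R' z) = y := by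
  rw [Generators.ker_eq_ker_aeval_val, RingHom.mem_ker]
  have hex : Function.Exact (kerR G).subtype (MvPolynomial.aeval G.val).toLinearMap := fun p => by
    constructor
    · intro hp
      exact ⟨⟨p, show p ∈ G.ker by rw [Generators.ker_eq_ker_aeval_val, RingHom.mem_ker]; exact hp⟩, rfl⟩
    · rintro ⟨q, rfl⟩
      have hq : (q : MvPolynomial ι R) ∈ G.ker := q.2
      rw [Generators.ker_eq_ker_aeval_val, RingHom.mem_ker] at hq
      exact hq
  have hexT := lTensor_exact R' hex fun s => ⟨G.σ s, G.aeval_val_σ s⟩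
  constructor
  · intro hy
    obtain ⟨x, rfl⟩ := (pT R R' ι).surjective y
    rw [aeval_pT G G' h, map_eq_zero_iff _ (AlgEquiv.injective _)] at hy
    obtain ⟨z, rfl⟩ := (hexT x).1 hy
    exact ⟨z, rfl⟩
  · rintro ⟨z, rfl⟩
    rw [aeval_pT G G' h, (hexT _).2 ⟨z, rfl⟩, map_zero]

theorem ker_eq_map : G'.ker =
    (G.ker.map (Algebra.TensorProduct.includeRight : MvPolynomial ι R →ₐ[R] R' ⊗[R] MvPolynomial ι R)).map
      (pT R R' ι).toRingEquiv.toRingHom := by
  ext y
  refine (mem_ker_iff G G' h y).trans ?_
  rw [Ideal.mem_map_iff_of_surjective (pT R R' ι).toRingEquiv.toRingHom (pT R R' ι).surjective]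
  constructor
  · rintro ⟨z, rfl⟩
    exact ⟨_, (Ideal.map_includeRight_eq (R := R) (A := R') G.ker).ge ⟨z, rfl⟩, rfl⟩
  · rintro ⟨x, hx, rfl⟩
    obtain ⟨z, hz⟩ := (Ideal.map_includeRight_eq (R := R) (A := R') G.ker).le hx
    exact ⟨z, congrArg (pT R R' ι) hz⟩

theorem mem_ker_sq {y : MvPolynomial ι R'} (hy : y ∈ G'.ker ^ 2) :
    ∃ z : R' ⊗[R] (Submodule.restrictScalars R (G.ker ^ 2 : Ideal (MvPolynomial ι R))),
      (pT R R' ι) ((Submodule.subtype _).lTensor R' z) = y := by
  rw [ker_eq_map G G' h, ← Ideal.map_pow, ← Ideal.map_pow,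
    Ideal.mem_map_iff_of_surjective (pT R R' ι).toRingEquiv.toRingHom (pT R R' ι).surjective] at hy
  obtain ⟨x, hx, rfl⟩ := hy
  obtain ⟨z, hz⟩ := (Ideal.map_includeRight_eq (R := R) (A := R') (G.ker ^ 2)).le hx
  exact ⟨z, congrArg (pT R R' ι) hz⟩

end

variable (R') in
/-- `r ⊗ i ↦ r ⊗ (i mod I²)`. -/
noncomputable def toBcCotangent : R' ⊗[R] kerR G →+ S' ⊗[S] G.toExtension.Cotangent :=
  TensorProduct.liftAddHom
    (AddMonoidHom.mk' (fun r => AddMonoidHom.mk'
        (fun i => algebraMap R' S' r ⊗ₜ[S] Extension.Cotangent.mk (⟨i.1, i.2⟩ : G.toExtension.ker))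
        fun i j => by
          rw [← tmul_add, ← map_add]
          rfl)
      fun r s => AddMonoidHom.ext fun i => by simp [add_tmul])
    fun a r i => by
      show algebraMap R' S' (a • r) ⊗ₜ[S] _ = algebraMap R' S' r ⊗ₜ[S] _
      rw [Algebra.smul_def a r, map_mul, ← IsScalarTower.algebraMap_apply R R' S', IsScalarTower.algebraMap_apply R S S',
        ← Algebra.smul_def, TensorProduct.smul_tmul]
      refine congrArg _ (Extension.Cotangent.ext ?_)
      rw [algebraMap_smul, Extension.Cotangent.val_smul'']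
      rfl

theorem toBcCotangent_tmul (r : R') (i : kerR G) :
    toBcCotangent (S' := S') R' G (r ⊗ₜ i) =
      algebraMap R' S' r ⊗ₜ[S] Extension.Cotangent.mk (⟨i.1, i.2⟩ : G.toExtension.ker) := rfl

theorem toBcCotangent_surjective [Algebra.IsPushout R R' S S'] :
    Function.Surjective (toBcCotangent (S' := S') R' G) := by
  intro x
  induction x with
  | zero => exact ⟨0, map_zero _⟩
  | add x y hx hy =>
    obtain ⟨a, rfl⟩ := hx
    obtain ⟨b, rfl⟩ := hy
    exact ⟨a + b, map_add _ _ _⟩
  | tmul s c =>
    obtain ⟨i, rfl⟩ := Extension.Cotangent.mk_surjective c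
    obtain ⟨w, rfl⟩ := (Algebra.IsPushout.equiv R R' S S').surjective s
    induction w with
    | zero => exact ⟨0, by rw [map_zero, map_zero, zero_tmul]⟩
    | add x y hx hy =>
      obtain ⟨a, ha⟩ := hx
      obtain ⟨b, hb⟩ := hy
      exact ⟨a + b, by rw [map_add, ha, hb, map_add, add_tmul]⟩
    | tmul r t =>
      let q : MvPolynomial ι R := i.1
      let p : MvPolynomial ι R := G.σ t
      refine ⟨r ⊗ₜ ⟨p * q, Ideal.mul_mem_left (G.ker : Ideal (MvPolynomial ι R)) _ i.2⟩, ?_⟩
      rw [toBcCotangent_tmul, Algebra.IsPushout.equiv_tmul, mul_comm (algebraMap R' S' r), ← Algebra.smul_def, TensorProduct.smul_tmul]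
      refine congrArg _ (Extension.Cotangent.ext ?_)
      rw [Extension.Cotangent.val_smul, Extension.Cotangent.val_mk, Extension.Cotangent.val_mk, ← LinearMap.map_smul_of_tower]
      rfl

section
variable (h : ∀ i, G'.val i = algebraMap S S' (G.val i)) [Algebra.IsPushout R R' S S']
include h

theorem bcLift_toBcCotangent (z : R' ⊗[R] kerR G) :
    bcLift (NLCx.sameVarsHom G G' h).toExtensionHom (toBcCotangent R' G z) =
      Extension.Cotangent.mk (⟨(pT R R' ι) ((kerR G).subtype.lTensor R' z),
        (mem_ker_iff G G' h _).2 ⟨z, rfl⟩⟩ : G'.toExtension.ker) := by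
  induction z with
  | zero =>
    refine Eq.trans (by rw [map_zero, map_zero]) ((map_zero Extension.Cotangent.mk).symm.trans ?_)
    exact congrArg _ (Subtype.ext (by simp <;> rfl))
  | add x y hx hy =>
    rw [map_add, map_add, hx, hy, ← map_add]
    exact congrArg _ (Subtype.ext (by simp <;> rfl))
  | tmul r i =>
    rw [toBcCotangent_tmul, LinearMap.liftBaseChange_tmul, Extension.Cotangent.map_mk,
      algebraMap_smul]
    refine Extension.Cotangent.ext ?_
    rw [Extension.Cotangent.val_smul'', Extension.Cotangent.val_mk, Extension.Cotangent.val_mk,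
      ← LinearMap.map_smul_of_tower]
    refine congrArg _ (Subtype.ext ?_)
    show r • (NLCx.sameVarsHom G G' h).toAlgHom i.1 = (pT R R' ι) (r ⊗ₜ[R] (i.1 : MvPolynomial ι R))
    rw [← pT_one_tmul G G' h, ← map_smul, smul_tmul', smul_eq_mul, mul_one]

/-- The base change map on conormal modules is surjective. -/
theorem bcLift_surjective : Function.Surjective (bcLift (S' := S') (NLCx.sameVarsHom G G' h).toExtensionHom) := by
  intro y
  obtain ⟨⟨y, hy⟩, rfl⟩ := Extension.Cotangent.mk_surjective y
  obtain ⟨z, rfl⟩ := (mem_ker_iff G G' h y).1 hy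
  exact ⟨toBcCotangent R' G z, bcLift_toBcCotangent G G' h z⟩

/-- The base change map on conormal modules is bijective when the kernel stays a submodule. -/
theorem bcLift_bijective_of_injective (hinj : Function.Injective ((kerR G).subtype.lTensor R')) :
    Function.Bijective (bcLift (S' := S') (NLCx.sameVarsHom G G' h).toExtensionHom) := by
  refine ⟨(injective_iff_map_eq_zero _).2 fun x hx => ?_, bcLift_surjective G G' h⟩
  obtain ⟨z, rfl⟩ := toBcCotangent_surjective (R' := R') (S' := S') G x
  rw [bcLift_toBcCotangent G G' h, Extension.Cotangent.mk_eq_zero_iff] at hx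
  obtain ⟨z₂, hz₂⟩ := mem_ker_sq G G' h hx
  let j : Submodule.restrictScalars R (G.ker ^ 2 : Ideal (MvPolynomial ι R)) →ₗ[R] kerR G :=
    Submodule.inclusion fun p hp => Ideal.pow_le_self two_ne_zero hp
  have hz : z = j.lTensor R' z₂ := by
    refine hinj ((pT R R' ι).injective ?_)
    rw [← LinearMap.comp_apply, ← LinearMap.lTensor_comp, show (kerR G).subtype.comp j = Submodule.subtype _ from rfl]
    exact hz₂.symm
  subst hz
  clear hx hz₂
  induction z₂ with
  | zero => simp
  | add a b ha hb => rw [map_add, map_add, ha, hb, add_zero]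
  | tmul r p =>
    rw [LinearMap.lTensor_tmul, toBcCotangent_tmul]
    rw [show Extension.Cotangent.mk (⟨(j p).1, (j p).2⟩ : G.toExtension.ker) = 0 from
      (Extension.Cotangent.mk_eq_zero_iff _).2 p.2, tmul_zero]

theorem bcLift_bijective_of_flat_base [Module.Flat R R'] :
    Function.Bijective (bcLift (S' := S') (NLCx.sameVarsHom G G' h).toExtensionHom) :=
  bcLift_bijective_of_injective G G' h
    (Module.Flat.lTensor_preserves_injective_linearMap _ Subtype.val_injective)

theorem bcLift_bijective_of_flat [Module.Flat R S] :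
    Function.Bijective (bcLift (S' := S') (NLCx.sameVarsHom G G' h).toExtensionHom) := by
  refine bcLift_bijective_of_injective G G' h ((LinearMap.lTensor_inj_iff_rTensor_inj R' _).2 ?_)
  refine EtGlue7.rTensor_injective_of_flat (kerR G).subtype (MvPolynomial.aeval G.val).toLinearMap ?_
    (fun s => ⟨G.σ s, G.aeval_val_σ s⟩) Subtype.val_injective R'
  intro p
  constructor
  · intro hp
    exact ⟨⟨p, show p ∈ G.ker by rw [Generators.ker_eq_ker_aeval_val, RingHom.mem_ker]; exact hp⟩, rfl⟩
  · rintro ⟨q, rfl⟩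
    have hq : (q : MvPolynomial ι R) ∈ G.ker := q.2
    rw [Generators.ker_eq_ker_aeval_val, RingHom.mem_ker] at hq
    exact hq

omit [Algebra.IsPushout R R' S S'] in
/-- The base change map on cotangent spaces is bijective. -/
theorem bcLiftSp_bijective : Function.Bijective (bcLiftSp (S' := S') (NLCx.sameVarsHom G G' h).toExtensionHom) := by
  let b := G.cotangentSpaceBasis.baseChange S'
  have he : ∀ i, bcLiftSp (S' := S') (NLCx.sameVarsHom G G' h).toExtensionHom (b i) = G'.cotangentSpaceBasis i := by
    intro i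
    rw [Module.Basis.baseChange_apply, LinearMap.liftBaseChange_tmul, one_smul, Generators.cotangentSpaceBasis_apply,
      Generators.cotangentSpaceBasis_apply]
    refine (Extension.CotangentSpace.map_tmul _ _ _).trans ?_
    rw [map_one]
    refine congrArg _ (congrArg _ ?_)
    exact Generators.Hom.toAlgHom_X _ i
  have heq : bcLiftSp (S' := S') (NLCx.sameVarsHom G G' h).toExtensionHom =
      (b.equiv G'.cotangentSpaceBasis (Equiv.refl ι)).toLinearMap :=
    b.ext fun i => (he i).trans (by simp)
  rw [heq]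
  exact LinearEquiv.bijective _

theorem bcH1Map_surjective :
    Function.Surjective (NLCx.bcH1Map (S' := S') (NLCx.sameVarsHom G G' h).toExtensionHom) := by
  intro y
  obtain ⟨x, hx⟩ := bcLift_surjective G G' h y.1
  refine ⟨⟨x, ?_⟩, Subtype.ext hx⟩
  show x ∈ LinearMap.ker (G.toExtension.cotangentComplex.baseChange S')
  rw [LinearMap.mem_ker]
  apply (bcLiftSp_bijective G G' h).1
  rw [map_zero, ← cotangentComplex_bcLift, hx]
  exact LinearMap.mem_ker.1 y.2

/-- The kernel on `H^{-1}` is the kernel on conormal modules. -/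
theorem nonempty_kerBcH1Map_equiv :
    Nonempty (LinearMap.ker (NLCx.bcH1Map (S' := S') (NLCx.sameVarsHom G G' h).toExtensionHom) ≃ₗ[S']
      LinearMap.ker (bcLift (S' := S') (NLCx.sameVarsHom G G' h).toExtensionHom)) := by
  let f := (NLCx.sameVarsHom G G' h).toExtensionHom
  let a : LinearMap.ker (NLCx.bcH1Map (S' := S') f) →ₗ[S'] LinearMap.ker (bcLift (S' := S') f) :=
    ((NLCx.bcH1 G.toExtension S').subtype.comp (LinearMap.ker (NLCx.bcH1Map (S' := S') f)).subtype).codRestrict _
      fun x => LinearMap.mem_ker.2 (congrArg (fun y : G'.toExtension.H1Cotangent => y.1)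
        (show NLCx.bcH1Map (S' := S') f x.1 = 0 from x.2))
  refine ⟨LinearEquiv.ofBijective a ⟨fun x y hxy => Subtype.ext (Subtype.ext (congrArg Subtype.val hxy :)), ?_⟩⟩
  rintro ⟨x, hx⟩
  have hd : x ∈ NLCx.bcH1 G.toExtension S' := by
    show x ∈ LinearMap.ker (G.toExtension.cotangentComplex.baseChange S')
    rw [LinearMap.mem_ker]
    apply (bcLiftSp_bijective G G' h).1
    rw [map_zero, ← cotangentComplex_bcLift, LinearMap.mem_ker.1 hx, map_zero]
  exact ⟨⟨⟨x, hd⟩, LinearMap.mem_ker.2 (Subtype.ext (LinearMap.mem_ker.1 hx))⟩, rfl⟩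

end

/-- A presentation of a pushout on the same variables. -/
theorem exists_generators [Algebra.IsPushout R R' S S'] :
    ∃ G' : Generators R' S' ι, ∀ i, G'.val i = algebraMap S S' (G.val i) := by
  refine ⟨Generators.ofSurjective (fun i => algebraMap S S' (G.val i)) fun s => ?_, fun i => rfl⟩
  obtain ⟨w, rfl⟩ := (Algebra.IsPushout.equiv R R' S S').surjective s
  obtain ⟨p, rfl⟩ := LinearMap.lTensor_surjective R' (g := (MvPolynomial.aeval G.val).toLinearMap)
    (fun t => ⟨G.σ t, G.aeval_val_σ t⟩) w
  refine ⟨(pT R R' ι) p, ?_⟩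
  induction p with
  | zero => simp
  | add x y hx hy => simp only [map_add, hx, hy]
  | tmul r p =>
    rw [MvPolynomial.algebraTensorAlgEquiv_tmul, map_smul, MvPolynomial.aeval_map_algebraMap, LinearMap.lTensor_tmul,
      AlgHom.toLinearMap_apply, Algebra.IsPushout.equiv_tmul, Algebra.smul_def]
    exact congrArg _ (DFunLike.congr_fun (MvPolynomial.comp_aeval G.val (IsScalarTower.toAlgHom R S S')) p).symm

end Groth.Agent.NLBC
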