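import Mathlib
import Groth.Agent.NLBC.BaseChange

/-!
# `H^{-1}` of the naive cotangent complex: functoriality and change of base along flat epimorphisms
-/

set_option autoImplicit false
set_option linter.style.haveILetI false
set_option backward.isDefEq.respectTransparency.types false

universe u

open TensorProduct Algebra

namespace Groth.Agent.NLBC

section Comp

variable {R R' R'' S S' S'' : Type u} [CommRing R] [CommRing R'] [CommRing R''] [CommRing S] [CommRing S'] [CommRing S'']
  [Algebra R R'] [Algebra R' R''] [Algebra R R''] [Algebra S S'] [Algebra S' S''] [Algebra S S'']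
  [Algebra R S] [Algebra R' S'] [Algebra R'' S''] [Algebra R S'] [Algebra R S''] [Algebra R' S'']
  [IsScalarTower R R' S'] [IsScalarTower R S S'] [IsScalarTower R R'' S''] [IsScalarTower R S S'']
  [IsScalarTower R' R'' S''] [IsScalarTower R' S' S''] [IsScalarTower R R' R''] [IsScalarTower S S' S'']

/-- `H^{-1}` maps compose. -/
theorem h1Map_comp (x : H1Cotangent R S) :
    Algebra.H1Cotangent.map R' R'' S' S'' (Algebra.H1Cotangent.map R R' S S' x) =
      Algebra.H1Cotangent.map R R'' S S'' x := by
  rw [Algebra.H1Cotangent.map, Algebra.H1Cotangent.map, Algebra.H1Cotangent.map,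
    ← Extension.H1Cotangent.map_comp_apply, Extension.H1Cotangent.map_eq]

end Comp

theorem h1Map_self {R S : Type u} [CommRing R] [CommRing S] [Algebra R S] (x : H1Cotangent R S) :
    Algebra.H1Cotangent.map R R S S x = x := by
  rw [Algebra.H1Cotangent.map, Extension.H1Cotangent.map_eq _ (Extension.Hom.id _), Extension.H1Cotangent.map_id]
  rfl

/-- A ring epimorphism is a pushout along any algebra over its target. -/
theorem isPushout_of_isEpi (R R' S : Type u) [CommRing R] [CommRing R'] [CommRing S] [Algebra R R'] [Algebra R' S]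
    [Algebra R S] [IsScalarTower R R' S] (h : ∀ a : R', (1 : R') ⊗ₜ[R] a = a ⊗ₜ[R] (1 : R')) :
    Algebra.IsPushout R R' S S := by
  have key : ∀ (a : R') (b : S), a ⊗ₜ[R] b = (1 : R') ⊗ₜ[R] (algebraMap R' S a * b) := fun a b => by
    have := congrArg (Algebra.TensorProduct.map (AlgHom.id R R') (IsScalarTower.toAlgHom R R' S)) (h a)
    simp only [Algebra.TensorProduct.map_tmul, AlgHom.coe_id, id_eq, IsScalarTower.coe_toAlgHom', map_one] at this
    calc a ⊗ₜ[R] b = (a ⊗ₜ[R] (1 : S)) * ((1 : R') ⊗ₜ[R] b) := by
          rw [Algebra.TensorProduct.tmul_mul_tmul, mul_one, one_mul]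
      _ = ((1 : R') ⊗ₜ[R] algebraMap R' S a) * ((1 : R') ⊗ₜ[R] b) := by rw [this]
      _ = _ := by rw [Algebra.TensorProduct.tmul_mul_tmul, one_mul]
  let μ : R' ⊗[R] S →ₐ[R'] S := Algebra.TensorProduct.lift (Algebra.ofId R' S) (AlgHom.id R S) fun _ _ => .all _ _
  have hinv : ∀ z : R' ⊗[R] S, (1 : R') ⊗ₜ[R] μ z = z := fun z => by
    induction z with
    | zero => rw [map_zero, tmul_zero]
    | add x y hx hy => rw [map_add, tmul_add, hx, hy]
    | tmul a b => rw [key a b]; simp [μ]
  let e : R' ⊗[R] S ≃ₐ[R'] S := AlgEquiv.ofBijective μ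
    ⟨fun x y hxy => by rw [← hinv x, ← hinv y, hxy], fun s => ⟨1 ⊗ₜ s, by simp [μ]⟩⟩
  refine ⟨IsBaseChange.of_equiv e.toLinearEquiv fun x => ?_⟩
  show μ (1 ⊗ₜ x) = _
  simp [μ]

/-- Changing the base along a flat epimorphism does not change `H^{-1}`. -/
theorem h1Map_bijective_of_flat_epi (R R' S : Type u) [CommRing R] [CommRing R'] [CommRing S] [Algebra R R']
    [Algebra R' S] [Algebra R S] [IsScalarTower R R' S] [Module.Flat R R']
    (h : ∀ a : R', (1 : R') ⊗ₜ[R] a = a ⊗ₜ[R] (1 : R')) :
    Function.Bijective (Algebra.H1Cotangent.map R R' S S) := by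
  haveI := isPushout_of_isEpi R R' S h
  let G := Generators.self R S
  obtain ⟨G', hG'⟩ := exists_generators (R' := R') (S' := S) G
  let f := (NLCx.sameVarsHom G G' hG').toExtensionHom
  have e₀ : ∀ x, Extension.Cotangent.map f x = bcLift (S' := S) f ((TensorProduct.lid S _).symm x) := fun x => by
    simp [f]
  have e₁ : ∀ x, Extension.CotangentSpace.map f x = bcLiftSp (S' := S) f ((TensorProduct.lid S _).symm x) := fun x => by
    simp [f]
  have h₀ : Function.Bijective (Extension.Cotangent.map f) :=
    (funext e₀ : (Extension.Cotangent.map f : _ → _) = _) ▸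
      (bcLift_bijective_of_flat_base G G' hG').comp (TensorProduct.lid S _).symm.bijective
  have h₁ : Function.Bijective (Extension.CotangentSpace.map f) :=
    (funext e₁ : (Extension.CotangentSpace.map f : _ → _) = _) ▸
      (bcLiftSp_bijective G G' hG').comp (TensorProduct.lid S _).symm.bijective
  have hH : Function.Bijective (Extension.H1Cotangent.map f) := by
    refine ⟨fun x y hxy => Subtype.ext (h₀.1 (congrArg Subtype.val hxy)), fun y => ?_⟩
    obtain ⟨x, hx⟩ := h₀.2 y.1
    refine ⟨⟨x, ?_⟩, Subtype.ext hx⟩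
    rw [LinearMap.mem_ker]
    apply h₁.1
    rw [Extension.CotangentSpace.map_cotangentComplex, hx, map_zero]
    exact LinearMap.mem_ker.1 y.2
  let e := Generators.H1Cotangent.equiv G' (Generators.self R' S)
  have he : ∀ x, Algebra.H1Cotangent.map R R' S S x = e (Extension.H1Cotangent.map f x) := fun x => by
    show _ = Extension.H1Cotangent.map _ (Extension.H1Cotangent.map f x)
    rw [← Extension.H1Cotangent.map_comp_apply, Algebra.H1Cotangent.map, Extension.H1Cotangent.map_eq]
  exact (funext he : (Algebra.H1Cotangent.map R R' S S : _ → _) = _) ▸ e.bijective.comp hH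

end Groth.Agent.NLBC
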