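import Mathlib
import Groth.Agent.NLBC.H1
import Groth.Prelude.Def_SheafNL

/-!
# `H^{-1}` of the naive cotangent complex on chart pairs of a morphism
-/

set_option autoImplicit false
set_option linter.style.haveILetI false
set_option backward.isDefEq.respectTransparency.types false

universe u

open CategoryTheory CategoryTheory.Limits AlgebraicGeometry TopologicalSpace Opposite TensorProduct

namespace Groth.Agent.NLBC

variable {X Y : Scheme.{u}} (f : X ⟶ Y)

/-- An affine chart pair. -/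
structure Chart where
  /-- The source. -/
  U : X.affineOpens
  /-- The target. -/
  V : Y.affineOpens
  e : (U : X.Opens) ≤ f ⁻¹ᵁ (V : Y.Opens)

variable {f}

/-- The module `H^{-1}` of a chart pair. -/
abbrev Chart.H (c : Chart f) : Type u := NLCx.ChartH1 f c.U c.V c.e

/-- Nested chart pairs. -/
structure Chart.Le (c' c : Chart f) : Prop where
  hU : (c'.U : X.Opens) ≤ (c.U : X.Opens)
  hV : (c'.V : Y.Opens) ≤ (c.V : Y.Opens)

theorem Chart.Le.refl (c : Chart f) : c.Le c := ⟨le_rfl, le_rfl⟩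

theorem Chart.Le.trans {c'' c' c : Chart f} (h' : c''.Le c') (h : c'.Le c) : c''.Le c :=
  ⟨h'.hU.trans h.hU, h'.hV.trans h.hV⟩

/-- Restriction between nested chart pairs. -/
noncomputable def Chart.r {c' c : Chart f} (h : c'.Le c) : c.H →+ c'.H :=
  NLCx.chartRes c.e c'.e h.hU h.hV

theorem Chart.r_refl (c : Chart f) (h : c.Le c) (x : c.H) : Chart.r h x = x := by
  obtain ⟨U, V, e⟩ := c
  let A := Γ(Y, (V : Y.Opens))
  let B := Γ(X, (U : X.Opens))
  letI aAB : Algebra A B := (f.appLE (V : Y.Opens) (U : X.Opens) e).hom.toAlgebra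
  have hA : (Y.presheaf.map (homOfLE h.hV).op).hom.toAlgebra = Algebra.id A := by
    refine Algebra.algebra_ext _ _ fun a => ?_
    show (Y.presheaf.map (homOfLE h.hV).op).hom a = a
    rw [show (homOfLE h.hV).op = 𝟙 (op (V : Y.Opens)) from Subsingleton.elim _ _, CategoryTheory.Functor.map_id]
    rfl
  have hB : (X.presheaf.map (homOfLE h.hU).op).hom.toAlgebra = Algebra.id B := by
    refine Algebra.algebra_ext _ _ fun a => ?_
    show (X.presheaf.map (homOfLE h.hU).op).hom a = a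
    rw [show (homOfLE h.hU).op = 𝟙 (op (U : X.Opens)) from Subsingleton.elim _ _, CategoryTheory.Functor.map_id]
    rfl
  have main : ∀ (iA : Algebra A A) (iB : Algebra B B), iA = Algebra.id A → iB = Algebra.id B →
      ∀ (sA : @IsScalarTower A A B iA.toSMul aAB.toSMul aAB.toSMul)
        (sB : @IsScalarTower A B B aAB.toSMul iB.toSMul aAB.toSMul),
      (letI := iA; letI := iB; haveI := sA; haveI := sB
       (Algebra.H1Cotangent.map A A B B).toAddMonoidHom x) = x := by
    rintro _ _ rfl rfl _ _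
    exact h1Map_self x
  exact main _ _ hA hB _ _

theorem Chart.r_comp {c'' c' c : Chart f} (h' : c''.Le c') (h : c'.Le c) (x : c.H) :
    Chart.r h' (Chart.r h x) = Chart.r (h'.trans h) x := by
  letI := (f.appLE (c.V : Y.Opens) (c.U : X.Opens) c.e).hom.toAlgebra
  letI := (f.appLE (c'.V : Y.Opens) (c'.U : X.Opens) c'.e).hom.toAlgebra
  letI := (f.appLE (c''.V : Y.Opens) (c''.U : X.Opens) c''.e).hom.toAlgebra
  letI := (f.appLE (c.V : Y.Opens) (c'.U : X.Opens) (h.hU.trans c.e)).hom.toAlgebra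
  letI := (f.appLE (c.V : Y.Opens) (c''.U : X.Opens) ((h'.trans h).hU.trans c.e)).hom.toAlgebra
  letI := (f.appLE (c'.V : Y.Opens) (c''.U : X.Opens) (h'.hU.trans c'.e)).hom.toAlgebra
  letI := (X.presheaf.map (homOfLE h.hU).op).hom.toAlgebra
  letI := (X.presheaf.map (homOfLE h'.hU).op).hom.toAlgebra
  letI := (X.presheaf.map (homOfLE (h'.trans h).hU).op).hom.toAlgebra
  letI := (Y.presheaf.map (homOfLE h.hV).op).hom.toAlgebra
  letI := (Y.presheaf.map (homOfLE h'.hV).op).hom.toAlgebra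
  letI := (Y.presheaf.map (homOfLE (h'.trans h).hV).op).hom.toAlgebra
  haveI : IsScalarTower Γ(Y, (c.V : Y.Opens)) Γ(Y, (c'.V : Y.Opens)) Γ(X, (c'.U : X.Opens)) :=
    IsScalarTower.of_algebraMap_eq' (by
      change (f.appLE _ _ _).hom = (f.appLE _ _ _).hom.comp (Y.presheaf.map _).hom
      rw [← CommRingCat.hom_comp, Scheme.Hom.map_appLE])
  haveI : IsScalarTower Γ(Y, (c.V : Y.Opens)) Γ(Y, (c''.V : Y.Opens)) Γ(X, (c''.U : X.Opens)) :=
    IsScalarTower.of_algebraMap_eq' (by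
      change (f.appLE _ _ _).hom = (f.appLE _ _ _).hom.comp (Y.presheaf.map _).hom
      rw [← CommRingCat.hom_comp, Scheme.Hom.map_appLE])
  haveI : IsScalarTower Γ(Y, (c'.V : Y.Opens)) Γ(Y, (c''.V : Y.Opens)) Γ(X, (c''.U : X.Opens)) :=
    IsScalarTower.of_algebraMap_eq' (by
      change (f.appLE _ _ _).hom = (f.appLE _ _ _).hom.comp (Y.presheaf.map _).hom
      rw [← CommRingCat.hom_comp, Scheme.Hom.map_appLE])
  haveI : IsScalarTower Γ(Y, (c.V : Y.Opens)) Γ(X, (c.U : X.Opens)) Γ(X, (c'.U : X.Opens)) :=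
    IsScalarTower.of_algebraMap_eq' (by
      change (f.appLE _ _ _).hom = (X.presheaf.map _).hom.comp (f.appLE _ _ _).hom
      rw [← CommRingCat.hom_comp, Scheme.Hom.appLE_map])
  haveI : IsScalarTower Γ(Y, (c.V : Y.Opens)) Γ(X, (c.U : X.Opens)) Γ(X, (c''.U : X.Opens)) :=
    IsScalarTower.of_algebraMap_eq' (by
      change (f.appLE _ _ _).hom = (X.presheaf.map _).hom.comp (f.appLE _ _ _).hom
      rw [← CommRingCat.hom_comp, Scheme.Hom.appLE_map])
  haveI : IsScalarTower Γ(Y, (c'.V : Y.Opens)) Γ(X, (c'.U : X.Opens)) Γ(X, (c''.U : X.Opens)) :=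
    IsScalarTower.of_algebraMap_eq' (by
      change (f.appLE _ _ _).hom = (X.presheaf.map _).hom.comp (f.appLE _ _ _).hom
      rw [← CommRingCat.hom_comp, Scheme.Hom.appLE_map])
  haveI : IsScalarTower Γ(Y, (c.V : Y.Opens)) Γ(Y, (c'.V : Y.Opens)) Γ(Y, (c''.V : Y.Opens)) :=
    IsScalarTower.of_algebraMap_eq' (by
      change (Y.presheaf.map _).hom = (Y.presheaf.map _).hom.comp (Y.presheaf.map _).hom
      rw [← CommRingCat.hom_comp, ← Functor.map_comp]
      rfl)
  haveI : IsScalarTower Γ(X, (c.U : X.Opens)) Γ(X, (c'.U : X.Opens)) Γ(X, (c''.U : X.Opens)) :=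
    IsScalarTower.of_algebraMap_eq' (by
      change (X.presheaf.map _).hom = (X.presheaf.map _).hom.comp (X.presheaf.map _).hom
      rw [← CommRingCat.hom_comp, ← Functor.map_comp]
      rfl)
  exact h1Map_comp x

theorem Chart.r_smul {c' c : Chart f} (h : c'.Le c) (a : Γ(X, (c.U : X.Opens))) (x : c.H) :
    Chart.r h (a • x) = (X.presheaf.map (homOfLE h.hU).op).hom a • Chart.r h x := by
  letI := (f.appLE (c.V : Y.Opens) (c.U : X.Opens) c.e).hom.toAlgebra
  letI := (f.appLE (c'.V : Y.Opens) (c'.U : X.Opens) c'.e).hom.toAlgebra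
  letI := (f.appLE (c.V : Y.Opens) (c'.U : X.Opens) (h.hU.trans c.e)).hom.toAlgebra
  letI := (X.presheaf.map (homOfLE h.hU).op).hom.toAlgebra
  letI := (Y.presheaf.map (homOfLE h.hV).op).hom.toAlgebra
  haveI : IsScalarTower Γ(Y, (c.V : Y.Opens)) Γ(Y, (c'.V : Y.Opens)) Γ(X, (c'.U : X.Opens)) :=
    IsScalarTower.of_algebraMap_eq' (by
      change (f.appLE _ _ _).hom = (f.appLE _ _ _).hom.comp (Y.presheaf.map _).hom
      rw [← CommRingCat.hom_comp, Scheme.Hom.map_appLE])
  haveI : IsScalarTower Γ(Y, (c.V : Y.Opens)) Γ(X, (c.U : X.Opens)) Γ(X, (c'.U : X.Opens)) :=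
    IsScalarTower.of_algebraMap_eq' (by
      change (f.appLE _ _ _).hom = (X.presheaf.map _).hom.comp (f.appLE _ _ _).hom
      rw [← CommRingCat.hom_comp, Scheme.Hom.appLE_map])
  exact (map_smul (Algebra.H1Cotangent.map Γ(Y, (c.V : Y.Opens)) Γ(Y, (c'.V : Y.Opens)) Γ(X, (c.U : X.Opens))
    Γ(X, (c'.U : X.Opens))) a x).trans (algebraMap_smul (Γ(X, (c'.U : X.Opens)) : Type u) a _).symm

theorem flat_and_epi_res {V V' : Y.Opens} (hV : IsAffineOpen V) (hV' : IsAffineOpen V') (h : V' ≤ V) :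
    (Y.presheaf.map (homOfLE h).op).hom.Flat ∧ Epi (Y.presheaf.map (homOfLE h).op) := by
  haveI : IsOpenImmersion (Spec.map (Y.presheaf.map (homOfLE h).op) ≫ hV.fromSpec) := by
    rw [hV.map_fromSpec hV']
    infer_instance
  haveI : IsOpenImmersion (Spec.map (Y.presheaf.map (homOfLE h).op)) :=
    IsOpenImmersion.of_comp _ hV.fromSpec
  refine ⟨(HasRingHomProperty.Spec_iff (P := @Flat)).1 inferInstance, ?_⟩
  haveI : Mono (Scheme.Spec.map (Y.presheaf.map (homOfLE h).op).op) :=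
    inferInstanceAs (Mono (Spec.map (Y.presheaf.map (homOfLE h).op)))
  haveI : Mono (Y.presheaf.map (homOfLE h).op).op := Scheme.Spec.mono_of_mono_map inferInstance
  exact unop_epi_of_mono (Y.presheaf.map (homOfLE h).op).op

/-- Shrinking the target does not change `H^{-1}`. -/
theorem Chart.r_bijective {c' c : Chart f} (h : c'.Le c) (hU : c'.U = c.U) : Function.Bijective (Chart.r h) := by
  obtain ⟨U, V, e⟩ := c
  obtain ⟨U', V', e'⟩ := c'
  obtain rfl : U' = U := hU
  letI := (f.appLE (V : Y.Opens) (U' : X.Opens) e).hom.toAlgebra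
  letI := (f.appLE (V' : Y.Opens) (U' : X.Opens) e').hom.toAlgebra
  letI := (Y.presheaf.map (homOfLE h.hV).op).hom.toAlgebra
  haveI : IsScalarTower Γ(Y, (V : Y.Opens)) Γ(Y, (V' : Y.Opens)) Γ(X, (U' : X.Opens)) :=
    IsScalarTower.of_algebraMap_eq' (by
      change (f.appLE _ _ _).hom = (f.appLE _ _ _).hom.comp (Y.presheaf.map _).hom
      rw [← CommRingCat.hom_comp, Scheme.Hom.map_appLE])
  obtain ⟨hflat, hepi⟩ := flat_and_epi_res V.2 V'.2 h.hV
  haveI : Module.Flat Γ(Y, (V : Y.Opens)) Γ(Y, (V' : Y.Opens)) := hflat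
  haveI : Algebra.IsEpi Γ(Y, (V : Y.Opens)) Γ(Y, (V' : Y.Opens)) := CommRingCat.epi_iff_epi.mp hepi
  have hb := h1Map_bijective_of_flat_epi Γ(Y, (V : Y.Opens)) Γ(Y, (V' : Y.Opens)) Γ(X, (U' : X.Opens))
    fun a => (Algebra.isEpi_iff_forall_one_tmul_eq _ _).1 inferInstance a
  have hB : (X.presheaf.map (homOfLE h.hU).op).hom.toAlgebra = Algebra.id Γ(X, (U' : X.Opens)) := by
    refine Algebra.algebra_ext _ _ fun a => ?_
    show (X.presheaf.map (homOfLE h.hU).op).hom a = a
    rw [show (homOfLE h.hU).op = 𝟙 (op (U' : X.Opens)) from Subsingleton.elim _ _, CategoryTheory.Functor.map_id]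
    rfl
  have main : ∀ (iB : Algebra Γ(X, (U' : X.Opens)) Γ(X, (U' : X.Opens))), iB = Algebra.id _ →
      ∀ (sB : @IsScalarTower Γ(Y, (V : Y.Opens)) Γ(X, (U' : X.Opens)) Γ(X, (U' : X.Opens))
        Algebra.toSMul iB.toSMul Algebra.toSMul),
      Function.Bijective (letI := iB; haveI := sB
        (Algebra.H1Cotangent.map Γ(Y, (V : Y.Opens)) Γ(Y, (V' : Y.Opens)) Γ(X, (U' : X.Opens))
          Γ(X, (U' : X.Opens))).toAddMonoidHom) := by
    rintro _ rfl _
    exact hb
  exact main _ hB _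

/-- The chart on a basic open. -/
abbrev Chart.basic (c : Chart f) (g : Γ(X, (c.U : X.Opens))) : Chart f :=
  ⟨⟨X.basicOpen g, c.U.2.basicOpen g⟩, c.V, (X.basicOpen_le g).trans c.e⟩

theorem Chart.basic_le (c : Chart f) (g : Γ(X, (c.U : X.Opens))) : (c.basic g).Le c :=
  ⟨X.basicOpen_le g, le_rfl⟩

theorem Chart.r_basic (c : Chart f) (g : Γ(X, (c.U : X.Opens))) :
    (∀ y : (c.basic g).H, ∃ (n : ℕ) (x : c.H),
      Chart.r (c.basic_le g) x = (X.presheaf.map (homOfLE (X.basicOpen_le g)).op).hom g ^ n • y) ∧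
    ∀ x : c.H, Chart.r (c.basic_le g) x = 0 → ∃ n : ℕ, g ^ n • x = 0 := by
  obtain ⟨⟨U, hU⟩, V, e⟩ := c
  let A := Γ(Y, (V : Y.Opens))
  let B := Γ(X, U)
  let B' := Γ(X, X.basicOpen g)
  letI := (f.appLE (V : Y.Opens) U e).hom.toAlgebra
  letI := (f.appLE (V : Y.Opens) (X.basicOpen g) ((X.basicOpen_le g).trans e)).hom.toAlgebra
  letI : Algebra B B' := (X.presheaf.map (homOfLE (X.basicOpen_le g)).op).hom.toAlgebra
  haveI : IsScalarTower A B B' :=
    IsScalarTower.of_algebraMap_eq' (by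
      change (f.appLE _ _ _).hom = (X.presheaf.map _).hom.comp (f.appLE _ _ _).hom
      rw [← CommRingCat.hom_comp, Scheme.Hom.appLE_map])
  haveI : IsLocalization.Away g B' := hU.isLocalization_basicOpen g
  let φ := Algebra.H1Cotangent.map A A B B'
  haveI : IsLocalizedModule (Submonoid.powers g) φ := Algebra.H1Cotangent.isLocalizedModule A B' _
  have hA : (Y.presheaf.map (homOfLE (le_refl (V : Y.Opens))).op).hom.toAlgebra = Algebra.id A := by
    refine Algebra.algebra_ext _ _ fun a => ?_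
    show (Y.presheaf.map (homOfLE (le_refl (V : Y.Opens))).op).hom a = a
    rw [show (homOfLE (le_refl (V : Y.Opens))).op = 𝟙 (op (V : Y.Opens)) from Subsingleton.elim _ _,
      CategoryTheory.Functor.map_id]
    rfl
  have hr : ∀ x, Chart.r (Chart.basic_le ⟨⟨U, hU⟩, V, e⟩ g) x = φ x := by
    intro x
    have main : ∀ (iA : Algebra A A), iA = Algebra.id A →
        ∀ (sA : @IsScalarTower A A B' iA.toSMul Algebra.toSMul Algebra.toSMul),
        (letI := iA; haveI := sA; (Algebra.H1Cotangent.map A A B B').toAddMonoidHom x) = φ x := by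
      rintro _ rfl _
      rfl
    exact main _ hA _
  refine ⟨fun y => ?_, fun x hx => ?_⟩
  · obtain ⟨⟨x, s⟩, hs⟩ := IsLocalizedModule.surj (Submonoid.powers g) φ y
    obtain ⟨n, hn⟩ := s.2
    refine ⟨n, x, ?_⟩
    rw [hr, ← hs, Submonoid.smul_def, ← hn, ← algebraMap_smul B' (g ^ n), map_pow]
    rfl
  · rw [hr] at hx
    obtain ⟨s, hs⟩ := (IsLocalizedModule.eq_zero_iff (Submonoid.powers g) φ).1 hx
    obtain ⟨n, hn⟩ := s.2
    exact ⟨n, by rw [Submonoid.smul_def, ← hn] at hs; exact hs⟩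

end Groth.Agent.NLBC
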