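import Mathlib
import Groth.Agent.NLBC.Chart
import Groth.Agent.GrModX.ChartQCoh

/-!
# The cohomology sheaf `H^{-1}` of the naive cotangent complex of a morphism
-/

set_option autoImplicit false
set_option linter.style.haveILetI false
set_option backward.isDefEq.respectTransparency.types false

universe u

open CategoryTheory CategoryTheory.Limits AlgebraicGeometry TopologicalSpace Opposite

namespace Groth.Agent.NLBC

variable {X Y : Scheme.{u}} {f : X ⟶ Y}

/-- A chart around a point inside given opens. -/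
theorem exists_chart (W : X.Opens) (V : Y.Opens) {p : X} (hp : p ∈ W) (hfp : f p ∈ V) :
    ∃ c : Chart f, p ∈ (c.U : X.Opens) ∧ (c.U : X.Opens) ≤ W ∧ (c.V : Y.Opens) ≤ V := by
  obtain ⟨V', hV', hfV, hle⟩ := exists_isAffineOpen_mem_and_subset hfp
  obtain ⟨U', hU', hpU, hle'⟩ := exists_isAffineOpen_mem_and_subset (show p ∈ W ⊓ f ⁻¹ᵁ V' from ⟨hp, hfV⟩)
  exact ⟨⟨⟨U', hU'⟩, ⟨V', hV'⟩, fun _ hx => (hle' hx).2⟩, hpU, fun _ hx => (hle' hx).1, hle⟩

theorem exists_common (c₁ c₂ : Chart f) {p : X} (h₁ : p ∈ (c₁.U : X.Opens)) (h₂ : p ∈ (c₂.U : X.Opens)) :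
    ∃ c : Chart f, p ∈ (c.U : X.Opens) ∧ c.Le c₁ ∧ c.Le c₂ := by
  obtain ⟨c, hp, hU, hV⟩ := exists_chart (f := f) ((c₁.U : X.Opens) ⊓ (c₂.U : X.Opens))
    ((c₁.V : Y.Opens) ⊓ (c₂.V : Y.Opens)) (show p ∈ _ from ⟨h₁, h₂⟩) (show f p ∈ _ from ⟨c₁.e h₁, c₂.e h₂⟩)
  exact ⟨c, hp, ⟨hU.trans inf_le_left, hV.trans inf_le_left⟩, ⟨hU.trans inf_le_right, hV.trans inf_le_right⟩⟩

theorem span_eq_top_of_cover {c : Chart f} {s : Set Γ(X, (c.U : X.Opens))}
    (h : ∀ p ∈ (c.U : X.Opens), ∃ g ∈ s, p ∈ X.basicOpen g) : Ideal.span s = ⊤ :=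
  c.U.2.self_le_iSup_basicOpen_iff.1 fun p hp => by
    obtain ⟨g, hg, hpg⟩ := h p hp
    exact Opens.mem_iSup.2 ⟨⟨g, hg⟩, hpg⟩

/-- Elements of `H^{-1}` of a chart are determined locally. -/
theorem eq_of_locally {c : Chart f} {x y : c.H}
    (h : ∀ p ∈ (c.U : X.Opens), ∃ (c' : Chart f) (hc : c'.Le c), p ∈ (c'.U : X.Opens) ∧ Chart.r hc x = Chart.r hc y) :
    x = y := by
  rw [← sub_eq_zero]
  have hcov : ∀ p ∈ (c.U : X.Opens), ∃ g ∈ {g : Γ(X, (c.U : X.Opens)) | Chart.r (c.basic_le g) (x - y) = 0},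
      p ∈ X.basicOpen g := fun p hp => by
    obtain ⟨c', hc, hpc, he⟩ := h p hp
    obtain ⟨g, hgle, hpg⟩ := c.U.2.exists_basicOpen_le (V := (c'.U : X.Opens)) ⟨p, hpc⟩ hp
    refine ⟨g, ?_, hpg⟩
    let d : Chart f := ⟨(c.basic g).U, c'.V, hgle.trans c'.e⟩
    have hd : d.Le (c.basic g) := ⟨le_rfl, hc.hV⟩
    have hd' : d.Le c' := ⟨hgle, le_rfl⟩
    refine (Chart.r_bijective hd rfl).1 ?_
    rw [Chart.r_comp, map_zero, ← Chart.r_comp hd' hc, map_sub, he, sub_self, map_zero]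
  have hspan := span_eq_top_of_cover hcov
  let I : Ideal Γ(X, (c.U : X.Opens)) := (⊥ : Submodule Γ(X, (c.U : X.Opens)) c.H).colon {x - y}
  have hI : I.radical = ⊤ := top_le_iff.1 (hspan.ge.trans (Ideal.span_le.2 fun g hg => by
    obtain ⟨n, hn⟩ := (Chart.r_basic c g).2 _ hg
    exact ⟨n, Submodule.mem_colon_singleton.2 ((Submodule.mem_bot _).2 hn)⟩))
  have h1 : (1 : Γ(X, (c.U : X.Opens))) ∈ I := by
    rw [Ideal.radical_eq_top.1 hI]; trivial
  simpa using (Submodule.mem_bot _).1 (Submodule.mem_colon_singleton.1 h1)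

/-- Classes on a finite cover by basic opens agreeing on overlaps glue. -/
theorem glue_basic (c : Chart f) {ι : Type u} [Fintype ι] (g : ι → Γ(X, (c.U : X.Opens)))
    (hg : Ideal.span (Set.range g) = ⊤) (y : ∀ i, (c.basic (g i)).H)
    (hy : ∀ i j, ∀ (h₁ : (c.basic (g i * g j)).Le (c.basic (g i))) (h₂ : (c.basic (g i * g j)).Le (c.basic (g j))),
      Chart.r h₁ (y i) = Chart.r h₂ (y j)) :
    ∃ x : c.H, ∀ i, Chart.r (c.basic_le (g i)) x = y i := by
  classical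
  let res (h : Γ(X, (c.U : X.Opens))) := (X.presheaf.map (homOfLE (c.basic_le h).hU).op).hom
  choose n m hm using fun i => (Chart.r_basic c (g i)).1 (y i)
  let n₀ := Finset.univ.sup n
  have hex : ∀ i, ∃ z : c.H, Chart.r (c.basic_le (g i)) z = res (g i) (g i) ^ n₀ • y i := fun i => by
    refine ⟨g i ^ (n₀ - n i) • m i, ?_⟩
    rw [Chart.r_smul, hm, map_pow, smul_smul, ← pow_add, Nat.sub_add_cancel (Finset.le_sup (Finset.mem_univ i))]
  choose m₀ hm₀ using hex
  have hle₁ : ∀ i j, (c.basic (g i * g j)).Le (c.basic (g i)) := fun i j =>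
    ⟨(X.basicOpen_mul (g i) (g j)).le.trans inf_le_left, le_rfl⟩
  have hle₂ : ∀ i j, (c.basic (g i * g j)).Le (c.basic (g j)) := fun i j =>
    ⟨(X.basicOpen_mul (g i) (g j)).le.trans inf_le_right, le_rfl⟩
  have hres : ∀ {h k : Γ(X, (c.U : X.Opens))} (hl : (c.basic h).Le (c.basic k)) (a : Γ(X, (c.U : X.Opens))),
      (X.presheaf.map (homOfLE hl.hU).op).hom (res k a) = res h a := fun hl a => by
    simp only [res, ← ConcreteCategory.comp_apply, ← CommRingCat.hom_comp, ← Functor.map_comp]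
    rfl
  have key : ∀ i j, ∃ k : ℕ, (g i * g j) ^ k • (g j ^ n₀ • m₀ i - g i ^ n₀ • m₀ j) = 0 := fun i j => by
    refine (Chart.r_basic c (g i * g j)).2 _ ?_
    rw [map_sub, Chart.r_smul, Chart.r_smul, ← Chart.r_comp (hle₁ i j) (c.basic_le (g i)) (m₀ i), hm₀,
      ← Chart.r_comp (hle₂ i j) (c.basic_le (g j)) (m₀ j), hm₀, Chart.r_smul, Chart.r_smul,
      hy i j (hle₁ i j) (hle₂ i j), smul_smul, smul_smul, sub_eq_zero]
    congr 1
    simp only [map_pow, hres (hle₁ i j), hres (hle₂ i j)]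
    exact mul_comm _ _
  choose k hk using key
  let k₀ := Finset.univ.sup fun p : ι × ι => k p.1 p.2
  let N := n₀ + k₀
  let m₁ : ι → c.H := fun i => g i ^ k₀ • m₀ i
  have hm₁ : ∀ i j, g j ^ N • m₁ i = g i ^ N • m₁ j := fun i j => by
    have hkle : k i j ≤ k₀ := Finset.le_sup (f := fun p : ι × ι => k p.1 p.2) (Finset.mem_univ (i, j))
    have h₀ := hk i j
    rw [smul_sub, sub_eq_zero, smul_smul, smul_smul] at h₀
    have h := congrArg (fun z => (g i * g j) ^ (k₀ - k i j) • z) h₀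
    simp only [smul_smul, ← mul_assoc, ← pow_add, Nat.sub_add_cancel hkle] at h
    show g j ^ N • g i ^ k₀ • m₀ i = g i ^ N • g j ^ k₀ • m₀ j
    rw [smul_smul, smul_smul, show g j ^ N * g i ^ k₀ = (g i * g j) ^ k₀ * g j ^ n₀ by simp only [N]; ring,
      show g i ^ N * g j ^ k₀ = (g i * g j) ^ k₀ * g i ^ n₀ by simp only [N]; ring]
    exact h
  have hN : Ideal.span (Set.range fun i => g i ^ N) = ⊤ := by
    have := Ideal.span_pow_eq_top (Set.range g) hg N
    rwa [← Set.range_comp] at this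
  obtain ⟨a, ha⟩ := Ideal.mem_span_range_iff_exists_fun.1
    (show (1 : Γ(X, (c.U : X.Opens))) ∈ Ideal.span (Set.range fun i => g i ^ N) by rw [hN]; trivial)
  refine ⟨∑ i, a i • m₁ i, fun j => ?_⟩
  have hx : g j ^ N • ∑ i, a i • m₁ i = m₁ j := by
    rw [Finset.smul_sum]
    calc ∑ i, g j ^ N • a i • m₁ i = ∑ i, (a i * g i ^ N) • m₁ j :=
          Finset.sum_congr rfl fun i _ => by rw [smul_comm, hm₁ i j, smul_smul]
      _ = m₁ j := by rw [← Finset.sum_smul, ha, one_smul]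
  have h := congrArg (Chart.r (c.basic_le (g j))) hx
  rw [Chart.r_smul, show m₁ j = g j ^ k₀ • m₀ j from rfl, Chart.r_smul, hm₀, smul_smul, map_pow, map_pow,
    ← pow_add, add_comm k₀ n₀] at h
  have hu : IsUnit (res (g j) (g j) ^ N) := IsUnit.pow N (by
    have := c.U.2.isLocalization_basicOpen (g j)
    exact IsLocalization.Away.algebraMap_isUnit (S := Γ(X, X.basicOpen (g j))) (g j))
  exact hu.smul_left_cancel.1 h

theorem extend_main {Q : Chart f → Prop} (hQ : ∀ {a b : Chart f}, a.Le b → Q b → Q a)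
    {T : ∀ a, Q a → a.H} (hT : ∀ {a b : Chart f} (h : a.Le b) (hb : Q b), T a (hQ h hb) = Chart.r h (T b hb))
    {c' a : Chart f} (h : a.Le c') (hU : a.U = c'.U) (ha : Q a) (z : c'.H) (hz : Chart.r h z = T a ha)
    {b : Chart f} (hb' : b.Le c') (hb : Q b) : Chart.r hb' z = T b hb := by
  refine eq_of_locally fun p hp => ?_
  obtain ⟨d, hpd, hda, hdb⟩ := exists_common a b (p := p) (by rw [hU]; exact hb'.hU hp) hp
  refine ⟨d, hdb, hpd, ?_⟩
  rw [Chart.r_comp, ← Chart.r_comp hda h, hz, ← hT hdb hb, ← hT hda ha]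

set_option maxHeartbeats 400000 in
/-- A partial compatible system on charts extends to a chart covered by its domain. -/
theorem existsUnique_extend (Q : Chart f → Prop) (hQ : ∀ {a b : Chart f}, a.Le b → Q b → Q a)
    (T : ∀ a, Q a → a.H) (hT : ∀ {a b : Chart f} (h : a.Le b) (hb : Q b), T a (hQ h hb) = Chart.r h (T b hb))
    (c : Chart f) (hc : ∀ p ∈ (c.U : X.Opens), ∃ a : Chart f, a.Le c ∧ Q a ∧ p ∈ (a.U : X.Opens)) :
    ∃! z : c.H, ∀ (a : Chart f) (h : a.Le c) (ha : Q a), Chart.r h z = T a ha := by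
  classical
  have main : ∀ (c' : Chart f) (a : Chart f) (h : a.Le c') (_ : a.U = c'.U) (ha : Q a) (z : c'.H),
      Chart.r h z = T a ha → ∀ (b : Chart f) (hb' : b.Le c') (hb : Q b), Chart.r hb' z = T b hb :=
    fun c' a h hU ha z hz b hb' hb => extend_main hQ hT h hU ha z hz hb' hb
  let s : Set Γ(X, (c.U : X.Opens)) :=
    {g | ∃ a : Chart f, a.Le (c.basic g) ∧ Q a ∧ a.U = (c.basic g).U}
  have hs : ∀ p ∈ (c.U : X.Opens), ∃ g ∈ s, p ∈ X.basicOpen g := fun p hp => by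
    obtain ⟨a, ha, hQa, hpa⟩ := hc p hp
    obtain ⟨g, hgle, hpg⟩ := c.U.2.exists_basicOpen_le (V := (a.U : X.Opens)) ⟨p, hpa⟩ hp
    exact ⟨g, ⟨⟨(c.basic g).U, a.V, hgle.trans a.e⟩, ⟨le_rfl, ha.hV⟩, hQ (b := a) ⟨hgle, le_rfl⟩ hQa, rfl⟩, hpg⟩
  obtain ⟨t, hts, ht⟩ := (Ideal.span_eq_top_iff_finite s).1 (span_eq_top_of_cover hs)
  choose a ha hQa hUa using fun i : (t : Finset Γ(X, (c.U : X.Opens))) => (show i.1 ∈ s from hts i.2)
  choose y hy using fun i => (Chart.r_bijective (ha i) (hUa i)).2 (T (a i) (hQa i))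
  have hy' : ∀ (i : {g // g ∈ t}) (b : Chart f) (hb' : b.Le (c.basic i.1)) (hb : Q b), Chart.r hb' (y i) = T b hb := fun i =>
    main (c.basic i.1) (a i) (ha i) (hUa i) (hQa i) (y i) (hy i)
  obtain ⟨x, hx⟩ := glue_basic c (fun i : t => i.1) (by simpa using ht) y fun i j h₁ h₂ => by
    refine eq_of_locally fun p hp => ?_
    obtain ⟨d, hpd, hd, hdi⟩ := exists_common (c.basic (i.1 * j.1)) (a i) hp (by rw [hUa i]; exact h₁.hU hp)
    refine ⟨d, hd, hpd, ?_⟩
    rw [Chart.r_comp, Chart.r_comp, hy' i d _ (hQ hdi (hQa i)), hy' j d _ (hQ hdi (hQa i))]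
  have hmem : ∀ p ∈ (c.U : X.Opens), ∃ i : t, p ∈ X.basicOpen i.1 := fun p hp => by
    have h := c.U.2.self_le_iSup_basicOpen_iff.2 (by simpa using ht : Ideal.span ((t : Set Γ(X, (c.U : X.Opens)))) = ⊤) hp
    obtain ⟨i, hi⟩ := Opens.mem_iSup.1 h
    exact ⟨⟨i.1, i.2⟩, hi⟩
  refine ⟨x, fun b hb' hb => ?_, fun z hz => ?_⟩
  · refine eq_of_locally fun p hp => ?_
    obtain ⟨i, hi⟩ := hmem p (hb'.hU hp)
    obtain ⟨d, hpd, hdb, hdi⟩ := exists_common b (c.basic i.1) (p := p) hp hi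
    refine ⟨d, hdb, hpd, ?_⟩
    rw [Chart.r_comp, ← Chart.r_comp hdi (c.basic_le i.1), hx, hy' i d hdi (hQ hdb hb), ← hT hdb hb]
  · refine eq_of_locally fun p hp => ?_
    obtain ⟨i, hi⟩ := hmem p hp
    refine ⟨a i, (ha i).trans (c.basic_le i.1), by rw [hUa i]; exact hi, ?_⟩
    rw [hz _ _ (hQa i), ← Chart.r_comp (ha i) (c.basic_le i.1), hx, hy]

noncomputable instance (c : Chart f) : AddCommGroup c.H :=
  letI := (f.appLE (c.V : Y.Opens) (c.U : X.Opens) c.e).hom.toAlgebra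
  inferInstanceAs (AddCommGroup (Algebra.H1Cotangent Γ(Y, (c.V : Y.Opens)) Γ(X, (c.U : X.Opens))))

variable (f)

/-- The compatible families of classes on the chart pairs inside an open. -/
noncomputable def famH (W : X.Opens) : AddSubgroup (∀ c : {c : Chart f // (c.U : X.Opens) ≤ W}, c.1.H) where
  carrier := {s | ∀ (a b : Chart f) (h : a.Le b) (ha : (a.U : X.Opens) ≤ W) (hb : (b.U : X.Opens) ≤ W),
    Chart.r h (s ⟨b, hb⟩) = s ⟨a, ha⟩}
  add_mem' {s t} hs ht a b h ha hb := by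
    show Chart.r h (s ⟨b, hb⟩ + t ⟨b, hb⟩) = s ⟨a, ha⟩ + t ⟨a, ha⟩
    rw [map_add, hs a b h ha hb, ht a b h ha hb]
  zero_mem' a b h ha hb := map_zero _
  neg_mem' {s} hs a b h ha hb := by
    show Chart.r h (-(s ⟨b, hb⟩)) = -(s ⟨a, ha⟩)
    rw [map_neg, hs a b h ha hb]

variable {f}

theorem famH_ext {W : X.Opens} {s t : famH f W} (h : ∀ c hc, s.1 ⟨c, hc⟩ = t.1 ⟨c, hc⟩) : s = t :=
  Subtype.ext (funext fun c => h c.1 c.2)

theorem res_res {W W' : X.Opens} {Z : X.Opens} (h : W' ≤ W) (h' : Z ≤ W') (r : Γ(X, W)) :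
    (X.presheaf.map (homOfLE h').op).hom ((X.presheaf.map (homOfLE h).op).hom r) =
      (X.presheaf.map (homOfLE (h'.trans h)).op).hom r := by
  rw [← ConcreteCategory.comp_apply, ← Functor.map_comp]
  rfl

noncomputable instance famHModule (W : X.Opens) : Module Γ(X, W) (famH f W) where
  smul r s := ⟨fun c => (X.presheaf.map (homOfLE c.2).op).hom r • s.1 c, fun a b h ha hb => by
    show Chart.r h _ = _
    rw [Chart.r_smul, s.2 a b h ha hb, res_res]⟩
  one_smul s := famH_ext fun c hc => by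
    show (X.presheaf.map (homOfLE hc).op).hom 1 • _ = _
    rw [map_one, one_smul]
  mul_smul r r' s := famH_ext fun c hc => by
    show (X.presheaf.map (homOfLE hc).op).hom (r * r') • _ = _
    rw [map_mul, mul_smul]
    rfl
  smul_zero r := famH_ext fun c hc => smul_zero _
  smul_add r s t := famH_ext fun c hc => smul_add _ _ _
  add_smul r r' s := famH_ext fun c hc => by
    show (X.presheaf.map (homOfLE hc).op).hom (r + r') • _ = _
    rw [map_add, add_smul]
    rfl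
  zero_smul s := famH_ext fun c hc => by
    show (X.presheaf.map (homOfLE hc).op).hom 0 • _ = _
    rw [map_zero, zero_smul]
    rfl

/-- Restriction of families. -/
noncomputable def famHRes {W W' : X.Opens} (h : W' ≤ W) : famH f W →+ famH f W' where
  toFun s := ⟨fun c => s.1 ⟨c.1, c.2.trans h⟩, fun a b hab ha hb => s.2 a b hab _ _⟩
  map_zero' := rfl
  map_add' _ _ := rfl

variable (f)

/-- The presheaf of compatible families. -/
noncomputable def h1Psh : (X.Opens)ᵒᵖ ⥤ Ab.{u} where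
  obj W := AddCommGrpCat.of (famH f W.unop)
  map i := AddCommGrpCat.ofHom (famHRes i.unop.le)

noncomputable instance (W : (X.Opens)ᵒᵖ) : Module (X.ringCatSheaf.obj.obj W) ((h1Psh f).obj W) :=
  inferInstanceAs (Module Γ(X, W.unop) (famH f W.unop))

/-- The presheaf of modules of compatible families. -/
noncomputable def h1PMod : X.PresheafOfModules :=
  PresheafOfModules.ofPresheaf (R := X.ringCatSheaf.obj) (h1Psh f) fun W W' i r s =>
    famH_ext fun c hc => by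
      show (X.presheaf.map (homOfLE (hc.trans i.unop.le)).op).hom (show Γ(X, W.unop) from r) • _ =
        (X.presheaf.map (homOfLE hc).op).hom ((X.presheaf.map i).hom (show Γ(X, W.unop) from r)) • _
      have hi : i = (homOfLE i.unop.le).op := Subsingleton.elim _ _
      conv_rhs => rw [hi]
      rw [res_res]
      rfl

theorem isSheaf_h1PMod : Presheaf.IsSheaf (Opens.grothendieckTopology X) (h1PMod f).presheaf := by
  refine (TopCat.Presheaf.isSheaf_iff_isSheafUniqueGluing (X := X.toPresheafedSpace.carrier)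
    (h1Psh f)).2 fun J W sf hsf => ?_
  classical
  have hcomp : ∀ (i j : J) (c : Chart f) (hi : (c.U : X.Opens) ≤ W i) (hj : (c.U : X.Opens) ≤ W j),
      (show famH f (W i) from sf i).1 ⟨c, hi⟩ = (show famH f (W j) from sf j).1 ⟨c, hj⟩ := fun i j c hi hj =>
    congrArg (fun s : famH f (W i ⊓ W j) => s.1 ⟨c, le_inf hi hj⟩) (hsf i j)
  let Q : Chart f → Prop := fun c => ∃ j, (c.U : X.Opens) ≤ W j
  have hQ : ∀ {a b : Chart f}, a.Le b → Q b → Q a := fun h ⟨j, hj⟩ => ⟨j, h.hU.trans hj⟩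
  let T : ∀ a, Q a → a.H := fun a ha => (show famH f (W ha.choose) from sf ha.choose).1 ⟨a, ha.choose_spec⟩
  have hT : ∀ {a b : Chart f} (h : a.Le b) (hb : Q b), T a (hQ h hb) = Chart.r h (T b hb) := fun {a b} h hb => by
    show _ = Chart.r h _
    rw [(show famH f (W hb.choose) from sf hb.choose).2 a b h (h.hU.trans hb.choose_spec) hb.choose_spec]
    exact hcomp _ _ a _ _
  have hcov : ∀ c : Chart f, (c.U : X.Opens) ≤ iSup W → ∀ p ∈ (c.U : X.Opens),
      ∃ a : Chart f, a.Le c ∧ Q a ∧ p ∈ (a.U : X.Opens) := fun c hc p hp => by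
    obtain ⟨j, hj⟩ := Opens.mem_iSup.1 (hc hp)
    obtain ⟨a, hpa, hU, hV⟩ := exists_chart (f := f) ((c.U : X.Opens) ⊓ W j) (c.V : Y.Opens) (p := p) ⟨hp, hj⟩ (c.e hp)
    exact ⟨a, ⟨hU.trans inf_le_left, hV⟩, ⟨j, hU.trans inf_le_right⟩, hpa⟩
  choose z hz huniq using fun (c : {c : Chart f // (c.U : X.Opens) ≤ iSup W}) =>
    existsUnique_extend Q hQ T hT c.1 (hcov c.1 c.2)
  let s : famH f (iSup W) := ⟨z, fun a b h ha hb => huniq ⟨a, ha⟩ _ fun d hd hQd => by
    rw [Chart.r_comp]; exact hz ⟨b, hb⟩ d _ hQd⟩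
  refine ⟨s, fun j => famH_ext fun c hc => ?_, fun t ht => famH_ext fun c hc => huniq ⟨c, hc⟩ _ fun d hd hQd => ?_⟩
  · have hQc : Q c := ⟨j, hc⟩
    show z ⟨c, _⟩ = _
    rw [← Chart.r_refl c (Chart.Le.refl c) (z ⟨c, _⟩), hz ⟨c, _⟩ c _ hQc]
    exact hcomp _ _ c _ _
  · rw [(show famH f (iSup W) from t).2 d c hd (hd.hU.trans hc) hc]
    exact congrArg (fun s : famH f (W hQd.choose) => s.1 ⟨d, hQd.choose_spec⟩) (ht hQd.choose)

/-- The cohomology sheaf `H^{-1}`. -/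
noncomputable def h1Mod : X.Modules := ⟨h1PMod f, isSheaf_h1PMod f⟩

theorem evalChart_bijective (c : Chart f) :
    Function.Bijective (fun s : famH f (c.U : X.Opens) => s.1 ⟨c, le_rfl⟩) := by
  have hcov : ∀ d : Chart f, (d.U : X.Opens) ≤ (c.U : X.Opens) → ∀ p ∈ (d.U : X.Opens),
      ∃ a : Chart f, a.Le d ∧ a.Le c ∧ p ∈ (a.U : X.Opens) := fun d hd p hp => by
    obtain ⟨a, hpa, h1, h2⟩ := exists_common d c hp (hd hp)
    exact ⟨a, h1, h2, hpa⟩
  refine ⟨fun s t hst => famH_ext fun d hd => eq_of_locally fun p hp => ?_, fun x => ?_⟩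
  · obtain ⟨a, h1, h2, hpa⟩ := hcov d hd p hp
    refine ⟨a, h1, hpa, ?_⟩
    rw [s.2 a d h1 (h1.hU.trans hd) hd, t.2 a d h1 (h1.hU.trans hd) hd, ← s.2 a c h2 h2.hU le_rfl,
      ← t.2 a c h2 h2.hU le_rfl]
    exact congrArg (Chart.r h2) hst
  · let T : ∀ a : Chart f, a.Le c → a.H := fun a ha => Chart.r ha x
    choose z hz huniq using fun (d : {d : Chart f // (d.U : X.Opens) ≤ (c.U : X.Opens)}) =>
      existsUnique_extend (fun a => a.Le c) (fun h h' => h.trans h') T (fun h hb => (Chart.r_comp h hb x).symm)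
        d.1 (hcov d.1 d.2)
    refine ⟨⟨z, fun a b h ha hb => huniq ⟨a, ha⟩ _ fun d hd hQd => by
      rw [Chart.r_comp]; exact hz ⟨b, hb⟩ d _ hQd⟩, ?_⟩
    show z ⟨c, _⟩ = x
    rw [← Chart.r_refl c (Chart.Le.refl c) (z ⟨c, _⟩), hz ⟨c, _⟩ c _ (Chart.Le.refl c)]
    exact Chart.r_refl c _ x

/-- The identification of sections with the `H^{-1}` of charts. -/
noncomputable def h1Sheaf : NLCx.H1Sheaf f (h1Mod f) where
  iso U V e := AddEquiv.ofBijective
    (AddMonoidHom.mk' (fun s : famH f (U : X.Opens) => s.1 ⟨(⟨U, V, e⟩ : Chart f), le_rfl⟩) fun _ _ => rfl)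
    (evalChart_bijective f ⟨U, V, e⟩)
  map_smul U V e a m := by
    show (X.presheaf.map (homOfLE le_rfl).op).hom a •
        (show famH f (U : X.Opens) from m).1 ⟨(⟨U, V, e⟩ : Chart f), le_rfl⟩ =
      a • (show famH f (U : X.Opens) from m).1 ⟨(⟨U, V, e⟩ : Chart f), le_rfl⟩
    rw [show (homOfLE (le_refl (U : X.Opens))).op = 𝟙 (op (U : X.Opens)) from Subsingleton.elim _ _,
      CategoryTheory.Functor.map_id]
    rfl
  map_res {U U' V V'} e e' hU hV m :=
    ((show famH f (U : X.Opens) from m).2 ⟨U', V', e'⟩ ⟨U, V, e⟩ ⟨hU, hV⟩ hU le_rfl).symm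

variable {f}

/-- Any module carrying chart identifications with `H^{-1}` is quasi-coherent. -/
theorem isQCoh_of_h1Sheaf {F : X.Modules} (d : NLCx.H1Sheaf f F) : Coh.IsQCoh F := by
  choose c hc _ _ using fun p : X => exists_chart (f := f) ⊤ ⊤ (p := p) trivial trivial
  refine GrModX.isQCoh_of_affineCover_sections (fun p : X => ((c p).U : X.Opens))
    (top_le_iff.1 fun p _ => Opens.mem_iSup.2 ⟨p, hc p⟩) (fun p => (c p).U.2) (fun p g s => ?_) fun p g t ht => ?_
  · obtain ⟨n, x, hx⟩ := (Chart.r_basic (c p) g).1 (d.iso _ _ ((c p).basic g).e s)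
    refine ⟨n, (d.iso _ _ (c p).e).symm x, (d.iso ((c p).basic g).U _ ((c p).basic g).e).injective ?_⟩
    refine (d.map_res (c p).e ((c p).basic g).e ((c p).basic_le g).hU le_rfl _).trans ?_
    rw [AddEquiv.apply_symm_apply]
    exact hx.trans (d.map_smul ((c p).basic g).U (c p).V ((c p).basic g).e _ s).symm
  · obtain ⟨n, hn⟩ := (Chart.r_basic (c p) g).2 (d.iso _ _ (c p).e t) (by
      refine (d.map_res (c p).e ((c p).basic g).e ((c p).basic_le g).hU le_rfl t).symm.trans ?_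
      exact (congrArg (d.iso _ _ ((c p).basic g).e) ht).trans (map_zero _))
    refine ⟨n, (d.iso _ _ (c p).e).injective ?_⟩
    exact ((d.map_smul (c p).U (c p).V (c p).e _ t).trans hn).trans (map_zero _).symm

end Groth.Agent.NLBC
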