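import Mathlib

/-!
# `H^{-1}` of the naive cotangent complex of a surjective ring map
-/

set_option autoImplicit false
set_option backward.isDefEq.respectTransparency.types false

universe u

open Algebra MvPolynomial

namespace Groth.Agent.NLBC

variable {A B : Type u} [CommRing A] [CommRing B] [Algebra A B]

theorem mem_selfKer {p : MvPolynomial B A} :
    (show (Generators.self A B).toExtension.Ring from p) ∈ (Generators.self A B).toExtension.ker ↔
      aeval (id : B → B) p = 0 :=
  Iff.rfl

/-- An element of the kernel, as an element of the kernel of the standard extension. -/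
noncomputable def kerC (a : RingHom.ker (algebraMap A B)) : (Generators.self A B).toExtension.ker :=
  ⟨C a.1, mem_selfKer.2 ((aeval_C _ _).trans a.2)⟩

/-- The class in `H^{-1}` of an element of the kernel. -/
noncomputable def kerClass (a : RingHom.ker (algebraMap A B)) : H1Cotangent A B :=
  ⟨Extension.Cotangent.mk (kerC a), Extension.Cotangent.mk_C_mem_ker_cotangentComplex _ (kerC a).2⟩

theorem kerClass_zero : kerClass (0 : RingHom.ker (algebraMap A B)) = 0 := by
  refine Subtype.ext ?_
  show Extension.Cotangent.mk (kerC (0 : RingHom.ker (algebraMap A B))) = 0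
  rw [show kerC (0 : RingHom.ker (algebraMap A B)) = 0 from Subtype.ext (map_zero C), map_zero]

theorem kerClass_add (a b : RingHom.ker (algebraMap A B)) : kerClass (a + b) = kerClass a + kerClass b := by
  refine Subtype.ext ?_
  show Extension.Cotangent.mk (kerC (a + b)) = Extension.Cotangent.mk (kerC a) + Extension.Cotangent.mk (kerC b)
  rw [← map_add]
  exact congrArg _ (Subtype.ext (map_add C a.1 b.1))

theorem kerClass_smul (r : A) (a : RingHom.ker (algebraMap A B)) :
    kerClass (r • a) = algebraMap A B r • kerClass a := by
  refine Subtype.ext ?_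
  show Extension.Cotangent.mk (kerC (r • a)) = algebraMap A B r • Extension.Cotangent.mk (kerC a)
  rw [show kerC (r • a) = (show (Generators.self A B).toExtension.Ring from C r) • kerC a from
    Subtype.ext (map_mul C r a.1), LinearMap.map_smul,
    ← algebraMap_smul B (show (Generators.self A B).toExtension.Ring from C r)]
  congr 1
  exact aeval_C (id : B → B) r

/-- Naturality of the class of an element of the kernel. -/
theorem h1Map_kerClass {R S R' S' : Type u} [CommRing R] [CommRing S] [CommRing R'] [CommRing S']
    [Algebra R S] [Algebra R' S'] [Algebra R R'] [Algebra S S'] [Algebra R S']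
    [IsScalarTower R R' S'] [IsScalarTower R S S']
    (a : RingHom.ker (algebraMap R S)) (h : algebraMap R' S' (algebraMap R R' a.1) = 0) :
    H1Cotangent.map R R' S S' (kerClass a) = kerClass ⟨algebraMap R R' a.1, h⟩ := by
  refine Subtype.ext ?_
  show Extension.Cotangent.map _ (Extension.Cotangent.mk (kerC a)) = _
  rw [Extension.Cotangent.map_mk]
  refine congrArg _ (Subtype.ext ?_)
  exact (aeval_C _ _).trans (IsScalarTower.algebraMap_apply R R' (MvPolynomial S' R') a.1)

/-- The retraction endomorphism of the standard extension given by a section. -/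
noncomputable def secHom (σ : B → A) (hσ : ∀ b, algebraMap A B (σ b) = b) :
    (Generators.self A B).Hom (Generators.self A B) :=
  ⟨fun b => C (σ b), fun b => by simpa using hσ b⟩

theorem kerClass_surjective (hs : Function.Surjective (algebraMap A B)) :
    Function.Surjective (kerClass (A := A) (B := B)) := by
  choose σ hσ using hs
  intro x
  obtain ⟨p, hp⟩ := Extension.Cotangent.mk_surjective x.1
  have hmem : algebraMap A B (aeval σ (show MvPolynomial B A from p.1)) = 0 := by
    have h := p.2
    replace h : aeval (id : B → B) (show MvPolynomial B A from p.1) = 0 := mem_selfKer.1 h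
    have e : (IsScalarTower.toAlgHom A A B).comp (aeval σ) = aeval (id : B → B) :=
      MvPolynomial.algHom_ext fun b => by simp [hσ]
    exact (DFunLike.congr_fun e p.1).trans h
  refine ⟨⟨_, hmem⟩, Subtype.ext ?_⟩
  have key : x.1 = Extension.Cotangent.map (secHom σ hσ).toExtensionHom x.1 := by
    have := congrArg (fun g => (g x).1)
      (Extension.H1Cotangent.map_eq (Extension.Hom.id (Generators.self A B).toExtension)
        (secHom σ hσ).toExtensionHom)
    simpa using this
  show Extension.Cotangent.mk (kerC _) = x.1
  rw [key, ← hp, Extension.Cotangent.map_mk]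
  refine congrArg _ (Subtype.ext ?_)
  show C (aeval σ (show MvPolynomial B A from p.1)) = _
  exact (comp_aeval_apply σ (Algebra.ofId A (MvPolynomial B A)) p.1)

theorem mem_sq_of_kerClass_eq_zero (hs : Function.Surjective (algebraMap A B))
    (a : RingHom.ker (algebraMap A B)) (h : kerClass a = 0) : a.1 ∈ RingHom.ker (algebraMap A B) ^ 2 := by
  choose σ hσ using hs
  have h0 : Extension.Cotangent.mk (kerC a) = 0 := congrArg Subtype.val h
  have h1 : (C a.1 : MvPolynomial B A) ∈ (Generators.self A B).toExtension.ker ^ 2 :=
    (Ideal.toCotangent_eq_zero _ _).1 (by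
      have := congrArg Extension.Cotangent.val h0
      simpa using this)
  have hle : (Generators.self A B).toExtension.ker.map (aeval σ : MvPolynomial B A →ₐ[A] A) ≤
      RingHom.ker (algebraMap A B) := by
    refine Ideal.map_le_iff_le_comap.2 fun p hp => ?_
    replace hp : aeval (id : B → B) (show MvPolynomial B A from p) = 0 := mem_selfKer.1 hp
    have e : (IsScalarTower.toAlgHom A A B).comp (aeval σ) = aeval (id : B → B) :=
      MvPolynomial.algHom_ext fun b => by simp [hσ]
    exact (DFunLike.congr_fun e p).trans hp
  have h2 := Ideal.pow_right_mono hle 2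
  rw [← Ideal.map_pow] at h2
  have h3 := h2 (Ideal.mem_map_of_mem _ h1)
  exact ((aeval_C σ a.1).trans rfl : aeval σ (C a.1) = a.1) ▸ h3

end Groth.Agent.NLBC
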