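import Mathlib
import Groth.Agent.NLBC.SurjH1
import Groth.Agent.NLBC.Sheaf
import Groth.Agent.Synt29.ConormalStalk

/-!
# The conormal sheaf of a quasi-compact immersion is its `H^{-1}` sheaf
-/

set_option autoImplicit false
set_option linter.style.haveILetI false
set_option backward.isDefEq.respectTransparency.types false

universe u

open CategoryTheory CategoryTheory.Limits AlgebraicGeometry TopologicalSpace Opposite

namespace Groth.Agent.NLBC

open Synt29.OmegaStalk Synt29.ConormalStalk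

variable {Z X : Scheme.{u}} {i : Z ⟶ X}

/-- The class on a chart of a function killed by the chart map. -/
noncomputable def Chart.cl (a : Chart i) (s : Γ(X, (a.V : X.Opens)))
    (hs : i.appLE (a.V : X.Opens) (a.U : Z.Opens) a.e s = 0) : a.H :=
  letI := (i.appLE (a.V : X.Opens) (a.U : Z.Opens) a.e).hom.toAlgebra
  kerClass (⟨s, hs⟩ : RingHom.ker (algebraMap Γ(X, (a.V : X.Opens)) Γ(Z, (a.U : Z.Opens))))

theorem appLE_res {a b : Chart i} (h : a.Le b) (s : Γ(X, (b.V : X.Opens))) :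
    i.appLE (a.V : X.Opens) (a.U : Z.Opens) a.e (X.presheaf.map (homOfLE h.hV).op s) =
      Z.presheaf.map (homOfLE h.hU).op (i.appLE (b.V : X.Opens) (b.U : Z.Opens) b.e s) := by
  rw [← ConcreteCategory.comp_apply, ← ConcreteCategory.comp_apply, Scheme.Hom.map_appLE,
    Scheme.Hom.appLE_map]

theorem Chart.r_cl {a b : Chart i} (h : a.Le b) (s : Γ(X, (b.V : X.Opens)))
    (hs : i.appLE (b.V : X.Opens) (b.U : Z.Opens) b.e s = 0) :
    Chart.r h (b.cl s hs) = a.cl (X.presheaf.map (homOfLE h.hV).op s)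
      ((appLE_res h s).trans (by rw [hs, map_zero])) := by
  letI := (i.appLE (b.V : X.Opens) (b.U : Z.Opens) b.e).hom.toAlgebra
  letI := (i.appLE (a.V : X.Opens) (a.U : Z.Opens) a.e).hom.toAlgebra
  letI := (i.appLE (b.V : X.Opens) (a.U : Z.Opens) (h.hU.trans b.e)).hom.toAlgebra
  letI := (Z.presheaf.map (homOfLE h.hU).op).hom.toAlgebra
  letI := (X.presheaf.map (homOfLE h.hV).op).hom.toAlgebra
  haveI : IsScalarTower Γ(X, (b.V : X.Opens)) Γ(X, (a.V : X.Opens)) Γ(Z, (a.U : Z.Opens)) :=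
    IsScalarTower.of_algebraMap_eq' (by
      change (i.appLE _ _ _).hom = (i.appLE _ _ _).hom.comp (X.presheaf.map _).hom
      rw [← CommRingCat.hom_comp, Scheme.Hom.map_appLE])
  haveI : IsScalarTower Γ(X, (b.V : X.Opens)) Γ(Z, (b.U : Z.Opens)) Γ(Z, (a.U : Z.Opens)) :=
    IsScalarTower.of_algebraMap_eq' (by
      change (i.appLE _ _ _).hom = (Z.presheaf.map _).hom.comp (i.appLE _ _ _).hom
      rw [← CommRingCat.hom_comp, Scheme.Hom.appLE_map])
  exact h1Map_kerClass _ _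

theorem Chart.cl_congr (a : Chart i) {s t : Γ(X, (a.V : X.Opens))} (h : s = t)
    (hs : i.appLE (a.V : X.Opens) (a.U : Z.Opens) a.e s = 0)
    (ht : i.appLE (a.V : X.Opens) (a.U : Z.Opens) a.e t = 0) : a.cl s hs = a.cl t ht := by
  subst h; rfl

section

variable [QuasiCompact i]

/-- The function on the target of a chart of a section of the ideal. -/
noncomputable def sectOn {W : X.Opens} (k : Γ(ClSub.idealMod i.ker, W)) (a : Chart i)
    (h : (a.V : X.Opens) ≤ W) : Γ(X, (a.V : X.Opens)) :=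
  X.presheaf.map (homOfLE h).op (OmegaSh.idealSect i.ker W k)

theorem appLE_sectOn {W : X.Opens} (k : Γ(ClSub.idealMod i.ker, W)) (a : Chart i)
    (h : (a.V : X.Opens) ≤ W) : i.appLE (a.V : X.Opens) (a.U : Z.Opens) a.e (sectOn k a h) = 0 := by
  rw [sectOn, ← ConcreteCategory.comp_apply, Scheme.Hom.map_appLE, Scheme.Hom.appLE,
    ConcreteCategory.comp_apply, OmegaUniv.app_idealSect, map_zero]

/-- The class of a section of the ideal on a small chart. -/
noncomputable def classOn {W : X.Opens} (k : Γ(ClSub.idealMod i.ker, W)) (a : Chart i)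
    (h : (a.V : X.Opens) ≤ W) : a.H :=
  a.cl (sectOn k a h) (appLE_sectOn k a h)

theorem classOn_res {W : X.Opens} (k : Γ(ClSub.idealMod i.ker, W)) {a b : Chart i} (h : a.Le b)
    (hb : (b.V : X.Opens) ≤ W) : classOn k a (h.hV.trans hb) = Chart.r h (classOn k b hb) := by
  rw [classOn, classOn, Chart.r_cl]
  refine Chart.cl_congr a ?_ _ _
  simp only [sectOn, ← ConcreteCategory.comp_apply, ← Functor.map_comp]
  rfl

theorem cover_small (W : X.Opens) (c : Chart i) (hc : (c.U : Z.Opens) ≤ i ⁻¹ᵁ W) :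
    ∀ p ∈ (c.U : Z.Opens), ∃ a : Chart i, a.Le c ∧ (a.V : X.Opens) ≤ W ∧ p ∈ (a.U : Z.Opens) := fun p hp => by
  obtain ⟨a, hpa, hU, hV⟩ := exists_chart (f := i) (c.U : Z.Opens) ((c.V : X.Opens) ⊓ W) hp ⟨c.e hp, hc hp⟩
  exact ⟨a, ⟨hU, hV.trans inf_le_left⟩, hV.trans inf_le_right, hpa⟩

theorem existsUnique_ext {W : X.Opens} (k : Γ(ClSub.idealMod i.ker, W)) (c : Chart i)
    (hc : (c.U : Z.Opens) ≤ i ⁻¹ᵁ W) :
    ∃! z : c.H, ∀ (a : Chart i) (h : a.Le c) (ha : (a.V : X.Opens) ≤ W), Chart.r h z = classOn k a ha :=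
  existsUnique_extend (fun a => (a.V : X.Opens) ≤ W) (fun h hb => h.hV.trans hb)
    (fun a ha => classOn k a ha) (fun h hb => classOn_res k h hb) c (cover_small W c hc)

/-- The family of classes of a section of the ideal. -/
noncomputable def idealFam {W : X.Opens} (k : Γ(ClSub.idealMod i.ker, W)) : famH i (i ⁻¹ᵁ W) :=
  ⟨fun c => (existsUnique_ext k c.1 c.2).exists.choose, fun a b h ha hb => by
    refine (existsUnique_ext k a ha).unique (fun d hd hdW => ?_) (existsUnique_ext k a ha).exists.choose_spec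
    refine (Chart.r_comp hd h _).trans ?_
    exact (existsUnique_ext k b hb).exists.choose_spec d _ hdW⟩

theorem idealFam_apply {W : X.Opens} (k : Γ(ClSub.idealMod i.ker, W)) (c : Chart i)
    (hc : (c.U : Z.Opens) ≤ i ⁻¹ᵁ W) (hW : (c.V : X.Opens) ≤ W) :
    (idealFam k).1 ⟨c, hc⟩ = classOn k c hW := by
  have h := (existsUnique_ext k c hc).exists.choose_spec c (Chart.Le.refl c) hW
  rwa [Chart.r_refl] at h

theorem fam_ext_small {W : X.Opens} {s t : famH i (i ⁻¹ᵁ W)}
    (h : ∀ c hc, (c : Chart i).V.1 ≤ W → s.1 ⟨c, hc⟩ = t.1 ⟨c, hc⟩) : s = t :=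
  famH_ext fun c hc => eq_of_locally fun p hp => by
    obtain ⟨a, hac, haW, hpa⟩ := cover_small W c hc p hp
    refine ⟨a, hac, hpa, ?_⟩
    exact (s.2 a c hac (hac.hU.trans hc) hc).trans
      ((h a (hac.hU.trans hc) haW).trans (t.2 a c hac (hac.hU.trans hc) hc).symm)

theorem idealFam_add {W : X.Opens} (k k' : Γ(ClSub.idealMod i.ker, W)) :
    idealFam (k + k') = idealFam k + idealFam k' := fam_ext_small fun c hc hW => by
  show _ = (idealFam k).1 ⟨c, hc⟩ + (idealFam k').1 ⟨c, hc⟩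
  rw [idealFam_apply _ c hc hW, idealFam_apply _ c hc hW, idealFam_apply _ c hc hW]
  unfold classOn Chart.cl
  letI := (i.appLE (c.V : X.Opens) (c.U : Z.Opens) c.e).hom.toAlgebra
  rw [← kerClass_add]
  exact congrArg kerClass (Subtype.ext (by simp [sectOn]))

theorem idealFam_smul {W : X.Opens} (r : Γ(X, W)) (k : Γ(ClSub.idealMod i.ker, W)) :
    idealFam (r • k) = i.app W r • idealFam k := fam_ext_small fun c hc hW => by
  show _ = (Z.presheaf.map (homOfLE hc).op).hom (i.app W r) • (idealFam k).1 ⟨c, hc⟩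
  rw [idealFam_apply _ c hc hW, idealFam_apply _ c hc hW]
  have hr : (Z.presheaf.map (homOfLE hc).op).hom (i.app W r) =
      (i.appLE (c.V : X.Opens) (c.U : Z.Opens) c.e).hom (X.presheaf.map (homOfLE hW).op r) := by
    rw [← ConcreteCategory.comp_apply, ← ConcreteCategory.comp_apply, Scheme.Hom.map_appLE]
    rfl
  rw [hr]
  unfold classOn Chart.cl
  letI := (i.appLE (c.V : X.Opens) (c.U : Z.Opens) c.e).hom.toAlgebra
  refine Eq.trans ?_ (kerClass_smul _ _)
  exact congrArg kerClass (Subtype.ext (by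
    show sectOn (r • k) c hW = _ * sectOn k c hW
    rw [sectOn, OmegaLib.idealSect_smul, map_mul]
    rfl))

theorem idealFam_res {W W' : X.Opens} (h : W' ≤ W) (k : Γ(ClSub.idealMod i.ker, W)) :
    idealFam ((ClSub.idealMod i.ker).presheaf.map (homOfLE h).op k) =
      famHRes (i.preimage_mono h) (idealFam k) := fam_ext_small fun c hc hW => by
  show _ = (idealFam k).1 ⟨c, hc.trans (i.preimage_mono h)⟩
  rw [idealFam_apply _ c hc hW, idealFam_apply _ c _ (hW.trans h)]
  refine Chart.cl_congr c ?_ _ _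
  rw [sectOn, sectOn, OmegaLib.idealSect_map]
  simp only [← ConcreteCategory.comp_apply, ← Functor.map_comp]
  rfl

variable (i)

/-- The map from the ideal module to the direct image of `H^{-1}`. -/
noncomputable def idealToH1 : ClSub.idealMod i.ker ⟶ (Scheme.Modules.pushforward i).obj (h1Mod i) :=
  ⟨PresheafOfModules.homMk
    { app := fun W => AddCommGrpCat.ofHom (AddMonoidHom.mk'
        (fun k : Γ(ClSub.idealMod i.ker, W.unop) => (show Γ((Scheme.Modules.pushforward i).obj (h1Mod i), W.unop)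
          from idealFam k))
        fun k k' => idealFam_add k k')
      naturality := fun W W' j => AddCommGrpCat.ext fun k => idealFam_res j.unop.le k }
    fun W (r : Γ(X, W.unop)) (k : Γ(ClSub.idealMod i.ker, W.unop)) => idealFam_smul r k⟩

/-- The map from the conormal sheaf to `H^{-1}`. -/
noncomputable def conormalToH1 : Omega.conormal i ⟶ h1Mod i :=
  ((Scheme.Modules.pullbackPushforwardAdjunction i).homEquiv _ _).symm (idealToH1 i)

theorem conormalToH1_conormalSect (W : X.Opens) (k : Γ(ClSub.idealMod i.ker, W)) :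
    (conormalToH1 i).app (i ⁻¹ᵁ W) (OmegaSh.conormalSect i W k) = idealFam k := by
  refine (OmegaLib.pullSect_adjoint i _ _ (conormalToH1 i) W k).trans ?_
  rw [conormalToH1, Equiv.apply_symm_apply]
  rfl

omit [QuasiCompact i] in
theorem exists_surjective_chart [IsImmersion i] (W : Z.Opens) (V : X.Opens) {p : Z} (hp : p ∈ W) (hip : i p ∈ V) :
    ∃ a : Chart i, p ∈ (a.U : Z.Opens) ∧ (a.U : Z.Opens) ≤ W ∧ (a.V : X.Opens) ≤ V ∧
      Function.Surjective (i.appLE (a.V : X.Opens) (a.U : Z.Opens) a.e) := by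
  obtain ⟨T, hT, hTW⟩ := i.isEmbedding.isInducing.isOpen_iff.mp W.2
  obtain ⟨V₀, hV₀, hpV₀, hle⟩ := exists_isAffineOpen_mem_and_subset
    (show i p ∈ i.coborderRange ⊓ V ⊓ ⟨T, hT⟩ from
      ⟨⟨subset_coborder ⟨p, rfl⟩, hip⟩, (Set.ext_iff.mp hTW p).mpr hp⟩)
  let V' := i.coborderRange.ι ⁻¹ᵁ V₀
  have hV' : IsAffineOpen V' :=
    hV₀.preimage_of_isOpenImmersion _ (by rw [Scheme.Opens.opensRange_ι]; exact fun x hx => (hle hx).1.1)
  have himg : i.coborderRange.ι ''ᵁ V' = V₀ := by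
    rw [Scheme.Hom.image_preimage_eq_opensRange_inf, Scheme.Opens.opensRange_ι]
    exact inf_eq_right.2 fun x hx => (hle hx).1.1
  have hU : IsAffineOpen (i ⁻¹ᵁ V₀) := by
    rw [← i.liftCoborder_ι, Scheme.Hom.comp_preimage]
    exact hV'.preimage i.liftCoborder
  refine ⟨⟨⟨i ⁻¹ᵁ V₀, hU⟩, ⟨V₀, hV₀⟩, le_rfl⟩, hpV₀, fun x hx => (Set.ext_iff.mp hTW x).mp (hle hx).2,
    fun x hx => (hle hx).1.2, ?_⟩
  have hs := i.liftCoborder.app_surjective V' hV'
  rw [liftCoborder_app] at hs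
  have h2 : Function.Surjective (i.app (i.coborderRange.ι ''ᵁ V')) := fun y => by
    obtain ⟨x, hx⟩ := hs (Z.presheaf.map (eqToHom (i.liftCoborder_preimage V')).op y)
    exact ⟨x, (ConcreteCategory.bijective_of_isIso (Z.presheaf.map (eqToHom (i.liftCoborder_preimage V')).op)).1 hx⟩
  have h3 : Function.Surjective (i.app V₀) := himg ▸ h2
  show Function.Surjective (i.appLE V₀ (i ⁻¹ᵁ V₀) le_rfl)
  rwa [← Scheme.Hom.app_eq_appLE]

theorem germ_appLE_ker {x : Z} (a : Chart i) (hx : x ∈ (a.U : Z.Opens)) :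
    (RingHom.ker (i.appLE (a.V : X.Opens) (a.U : Z.Opens) a.e).hom).map
        (X.presheaf.germ (a.V : X.Opens) (i x) (a.e hx)).hom ≤ RingHom.ker (i.stalkMap x).hom := by
  refine Ideal.map_le_iff_le_comap.2 fun t ht => ?_
  rw [Ideal.mem_comap, RingHom.mem_ker, Scheme.Hom.germ_stalkMap_apply]
  have h : Z.presheaf.map (homOfLE a.e).op (i.app (a.V : X.Opens) t) = 0 := RingHom.mem_ker.mp ht
  exact (Z.presheaf.germ_res_apply (homOfLE a.e) x hx _).symm.trans ((congrArg _ h).trans (map_zero _))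

theorem conormalToH1_gm {x : Z} {W : X.Opens} (hx : x ∈ i ⁻¹ᵁ W) (k : Γ(ClSub.idealMod i.ker, W)) :
    (DerSch.stalkFunctor Z x).map (conormalToH1 i) (gm _ hx (OmegaSh.conormalSect i W k)) =
      gm (h1Mod i) hx (idealFam k) :=
  (DerSch.stalkFunctor_map_germ x (conormalToH1 i) _ hx _).trans
    (congrArg _ (conormalToH1_conormalSect i W k))

theorem mono_conormalToH1 [IsImmersion i] : Mono (conormalToH1 i) := by
  rw [mono_iff_stalk]
  intro x
  refine (injective_iff_map_eq_zero _).mpr fun z hz => ?_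
  obtain ⟨W, hx, k, rfl⟩ := exists_conormalSect i x z
  refine conormalSect_eq_zero i hx k ?_
  rw [conormalToH1_gm] at hz
  obtain ⟨T, hxT, j₁, j₂, hT⟩ := (h1Mod i).presheaf.germ_eq x hx hx _ (0 : Γ(h1Mod i, i ⁻¹ᵁ W))
    (hz.trans (map_zero (gm (h1Mod i) hx)).symm)
  obtain ⟨a, hxa, haT, haW, hs⟩ := exists_surjective_chart i T W hxT hx
  have h0 : (idealFam k).1 ⟨a, haT.trans j₁.le⟩ = 0 :=
    congrArg (fun s : famH i T => s.1 ⟨a, haT⟩) hT
  rw [idealFam_apply _ a _ haW] at h0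
  letI := (i.appLE (a.V : X.Opens) (a.U : Z.Opens) a.e).hom.toAlgebra
  have h1 := Ideal.mem_map_of_mem (X.presheaf.germ (a.V : X.Opens) (i x) (a.e hxa)).hom
    (mem_sq_of_kerClass_eq_zero hs _ h0)
  rw [Ideal.map_pow] at h1
  have h2 := Ideal.pow_right_mono (germ_appLE_ker i a hxa) 2 h1
  change X.presheaf.germ (a.V : X.Opens) (i x) (a.e hxa) (sectOn k a haW) ∈ _ at h2
  rwa [sectOn, X.presheaf.germ_res_apply] at h2

theorem epi_conormalToH1 [IsImmersion i] : Epi (conormalToH1 i) := by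
  rw [epi_iff_stalk]
  intro x m
  obtain ⟨T, hxT, s, rfl⟩ := gm_surjective (h1Mod i) m
  obtain ⟨a, hxa, haT, -, hs⟩ := exists_surjective_chart i T ⊤ hxT trivial
  let t : famH i T := s
  letI := (i.appLE (a.V : X.Opens) (a.U : Z.Opens) a.e).hom.toAlgebra
  obtain ⟨⟨e, he⟩, hse⟩ := kerClass_surjective hs (t.1 ⟨a, haT⟩)
  obtain ⟨W, hxW, hWa, e', he', heq⟩ := exists_killed i
    (X.presheaf.germ (a.V : X.Opens) (i x) (a.e hxa) e)
    (germ_appLE_ker i a hxa (Ideal.mem_map_of_mem _ he)) (a.V : X.Opens) (a.e hxa)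
  obtain ⟨k, hk⟩ := OmegaUniv.exists_idealSect_of_app_eq_zero i W e' he'
  obtain ⟨O, hxO, j₁, j₂, hO⟩ := X.presheaf.germ_eq (i x) hxW (a.e hxa) e' e heq
  obtain ⟨b, hxb, hbU, hbV⟩ := exists_chart (f := i) ((a.U : Z.Opens) ⊓ i ⁻¹ᵁ W) O (p := x) ⟨hxa, hxW⟩ hxO
  have hba : b.Le a := ⟨hbU.trans inf_le_left, hbV.trans j₂.le⟩
  refine ⟨gm (Omega.conormal i) (show x ∈ i ⁻¹ᵁ W from hxW) (OmegaSh.conormalSect i W k), ?_⟩
  rw [conormalToH1_gm, ← gm_res (h1Mod i) (homOfLE (hbU.trans inf_le_right)) hxb,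
    ← gm_res (h1Mod i) (homOfLE (hba.hU.trans haT)) hxb]
  refine congrArg (gm (h1Mod i) hxb) ((evalChart_bijective i b).1 ?_)
  show (idealFam k).1 ⟨b, hbU.trans inf_le_right⟩ = t.1 ⟨b, hba.hU.trans haT⟩
  rw [idealFam_apply _ b _ (hbV.trans j₁.le)]
  refine Eq.trans ?_ (t.2 b a hba (hba.hU.trans haT) haT)
  refine Eq.trans ?_ (congrArg (Chart.r hba) hse)
  refine Eq.trans ?_ (Chart.r_cl hba e he).symm
  refine Chart.cl_congr b ?_ _ _
  have h := congrArg (X.presheaf.map (homOfLE hbV).op) hO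
  rw [sectOn, hk]
  simpa only [← ConcreteCategory.comp_apply, ← Functor.map_comp] using! h

theorem isIso_conormalToH1 [IsImmersion i] : IsIso (conormalToH1 i) := by
  haveI := mono_conormalToH1 i
  haveI := epi_conormalToH1 i
  exact isIso_of_mono_of_epi _

/-- The conormal sheaf carries chart identifications with `H^{-1}`. -/
noncomputable def conormalH1Sheaf [IsImmersion i] : NLCx.H1Sheaf i (Omega.conormal i) :=
  haveI := isIso_conormalToH1 i
  { iso := fun U V e => (asIso ((conormalToH1 i).app (U : Z.Opens))).addCommGroupIsoToAddEquiv.trans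
      ((h1Sheaf i).iso U V e)
    map_smul := fun U V e a m =>
      (congrArg ((h1Sheaf i).iso U V e) ((conormalToH1 i).app_smul a m)).trans ((h1Sheaf i).map_smul U V e a _)
    map_res := fun {U U' V V'} e e' hU hV m =>
      (congrArg ((h1Sheaf i).iso U' V' e')
        (congr($((conormalToH1 i).mapPresheaf.naturality (homOfLE hU).op) m))).trans
        ((h1Sheaf i).map_res e e' hU hV _) }

end

end Groth.Agent.NLBC
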