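import Mathlib
import Groth.Agent.NLBC.BaseChange

/-!
# Homotopies between maps of naive cotangent complexes
-/

set_option autoImplicit false
set_option linter.style.haveILetI false
set_option backward.isDefEq.respectTransparency.types false

universe u

open TensorProduct Algebra CategoryTheory CategoryTheory.Limits HomologicalComplex

namespace Groth.Agent.NLBC

section Double

variable {B : Type u} [CommRing B] {X₀ X₁ Y₀ Y₁ : ModuleCat.{u} B} (a : X₀ ⟶ X₁) (b : Y₀ ⟶ Y₁)

/-- The shape of naive cotangent complexes. -/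
theorem relNegOne : (ComplexShape.up ℤ).Rel (-1) 0 := by simp

/-- A chain map of two-term complexes with the given components. -/
structure HasComps (φ : double a relNegOne ⟶ double b relNegOne) (p : X₀ ⟶ Y₀) (q : X₁ ⟶ Y₁) : Prop where
  /-- The component in degree `-1`. -/
  f₀ : φ.f (-1) = (doubleXIso₀ a relNegOne).hom ≫ p ≫ (doubleXIso₀ b relNegOne).inv
  /-- The component in degree `0`. -/
  f₁ : φ.f 0 = (doubleXIso₁ a relNegOne (by decide)).hom ≫ q ≫ (doubleXIso₁ b relNegOne (by decide)).inv

variable {a b}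

/-- Maps of two-term complexes differing by a homotopy. -/
noncomputable def HasComps.homotopy {φ ψ : double a relNegOne ⟶ double b relNegOne} {p p' : X₀ ⟶ Y₀}
    {q q' : X₁ ⟶ Y₁} (hφ : HasComps a b φ p q) (hψ : HasComps a b ψ p' q') (s : X₁ ⟶ Y₀)
    (h₀ : p - p' = a ≫ s) (h₁ : q - q' = s ≫ b) : Homotopy φ ψ :=
  let h : ∀ i j, (ComplexShape.up ℤ).Rel j i → ((double a relNegOne).X i ⟶ (double b relNegOne).X j) := fun i j hij =>
    if hi : i = 0 then
      eqToHom (by rw [hi]) ≫ (doubleXIso₁ a relNegOne (by decide)).hom ≫ s ≫ (doubleXIso₀ b relNegOne).inv ≫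
        eqToHom (by
          obtain rfl : j = -1 := by
            simp only [ComplexShape.up_Rel] at hij
            omega
          rfl)
    else 0
  Homotopy.equivSubZero.symm ((Homotopy.ofEq (show φ - ψ = Homotopy.nullHomotopicMap' h from
    from_double_hom_ext
      (by
        rw [Homotopy.nullHomotopicMap'_f (k₂ := -2) (k₀ := 0) (by simp) relNegOne, sub_f_apply, hφ.f₀, hψ.f₀,
          double_d a relNegOne (by decide)]
        simp only [← Preadditive.comp_sub, ← Preadditive.sub_comp, h₀]
        simp [h])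
      (by
        rw [Homotopy.nullHomotopicMap'_f (k₂ := -1) (k₀ := 1) relNegOne (by simp), sub_f_apply, hφ.f₁, hψ.f₁,
          double_d b relNegOne (by decide)]
        simp only [← Preadditive.comp_sub, ← Preadditive.sub_comp, h₁]
        simp [h]))).trans (Homotopy.nullHomotopy' h))

theorem HasComps.isIso {φ : double a relNegOne ⟶ double b relNegOne} {p : X₀ ⟶ Y₀} {q : X₁ ⟶ Y₁}
    (hφ : HasComps a b φ p q) (hp : IsIso p) (hq : IsIso q) : IsIso φ := by
  haveI := hp
  haveI := hq
  haveI : ∀ i, IsIso (φ.f i) := fun i => by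
    by_cases h : i = -1
    · subst h; rw [hφ.f₀]; infer_instance
    by_cases h' : i = 0
    · subst h'; rw [hφ.f₁]; infer_instance
    exact ⟨0, (isZero_double_X a relNegOne i h h').eq_of_src _ _, (isZero_double_X b relNegOne i h h').eq_of_src _ _⟩
  exact HomologicalComplex.Hom.isIso_of_components φ

theorem HasComps.eq {φ ψ : double a relNegOne ⟶ double b relNegOne} {p p' : X₀ ⟶ Y₀} {q q' : X₁ ⟶ Y₁}
    (hφ : HasComps a b φ p q) (hψ : HasComps a b ψ p' q') (h₀ : p = p') (h₁ : q = q') : φ = ψ :=
  from_double_hom_ext (by rw [hφ.f₀, hψ.f₀, h₀]) (by rw [hφ.f₁, hψ.f₁, h₁])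

theorem HasComps.comp {Z₀ Z₁ : ModuleCat.{u} B} {c : Z₀ ⟶ Z₁} {φ : double a relNegOne ⟶ double b relNegOne}
    {ψ : double b relNegOne ⟶ double c relNegOne} {p : X₀ ⟶ Y₀} {q : X₁ ⟶ Y₁} {p' : Y₀ ⟶ Z₀} {q' : Y₁ ⟶ Z₁}
    (hφ : HasComps a b φ p q) (hψ : HasComps b c ψ p' q') : HasComps a c (φ ≫ ψ) (p ≫ p') (q ≫ q') :=
  ⟨by simp [hφ.f₀, hψ.f₀], by simp [hφ.f₁, hψ.f₁]⟩

variable (a) in
theorem hasComps_id : HasComps a a (𝟙 (double a relNegOne)) (𝟙 _) (𝟙 _) :=
  ⟨by simp, by simp⟩

end Double

variable {R S R' S' : Type u} [CommRing R] [CommRing S] [CommRing R'] [CommRing S']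
  [Algebra R S] [Algebra R' S'] [Algebra R R'] [Algebra S S'] [Algebra R S']
  [IsScalarTower R R' S'] [IsScalarTower R S S']
  {P Q : Extension.{u} R S} {P' Q' : Extension.{u} R' S'}

theorem hasComps_bcMap (f : P.Hom P') : HasComps (ModuleCat.ofHom (P.cotangentComplex.baseChange S'))
    (ModuleCat.ofHom P'.cotangentComplex) (NLCx.bcMap (S' := S') f) (ModuleCat.ofHom (bcLift f))
    (ModuleCat.ofHom (bcLiftSp f)) :=
  ⟨mkHomFromDouble_f₀ .., mkHomFromDouble_f₁ ..⟩

/-- The base change map does not depend on the morphism of extensions, up to homotopy. -/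
noncomputable def bcMapHomotopy (f g : P.Hom P') : Homotopy (NLCx.bcMap (S' := S') f) (NLCx.bcMap g) :=
  (hasComps_bcMap f).homotopy (hasComps_bcMap g) (ModuleCat.ofHom (LinearMap.liftBaseChange S' (f.sub g)))
    (ModuleCat.hom_ext (LinearMap.ext (bcLift_sub f g))) (ModuleCat.hom_ext (LinearMap.ext (bcLiftSp_sub f g)))

theorem bcMap_isIso (f : P.Hom P') (h₀ : Function.Bijective (bcLift (S' := S') f))
    (h₁ : Function.Bijective (bcLiftSp (S' := S') f)) : IsIso (NLCx.bcMap (S' := S') f) :=
  (hasComps_bcMap f).isIso ((ConcreteCategory.isIso_iff_bijective _).2 h₀)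
    ((ConcreteCategory.isIso_iff_bijective _).2 h₁)

section SameTop

variable {R₁ : Type u} [CommRing R₁] [Algebra R₁ S] [Algebra R R₁] [IsScalarTower R R₁ S] {P₁ Q₁ : Extension.{u} R₁ S}

theorem hasComps_map (f : P.Hom P₁) : HasComps (ModuleCat.ofHom P.cotangentComplex)
    (ModuleCat.ofHom P₁.cotangentComplex) (NLCx.map f) (ModuleCat.ofHom (Extension.Cotangent.map f))
    (ModuleCat.ofHom (Extension.CotangentSpace.map f)) :=
  ⟨mkHomFromDouble_f₀ .., mkHomFromDouble_f₁ ..⟩

theorem map_isIso (f : P.Hom P₁) (h₀ : Function.Bijective (Extension.Cotangent.map f))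
    (h₁ : Function.Bijective (Extension.CotangentSpace.map f)) : IsIso (NLCx.map f) :=
  (hasComps_map f).isIso ((ConcreteCategory.isIso_iff_bijective _).2 h₀)
    ((ConcreteCategory.isIso_iff_bijective _).2 h₁)

theorem map_id_eq : NLCx.map (Extension.Hom.id P) = 𝟙 (NLCx.cx P) :=
  (hasComps_map (Extension.Hom.id P)).eq (hasComps_id _)
    (ModuleCat.hom_ext (by rw [ModuleCat.hom_ofHom, Extension.Cotangent.map_id]; rfl))
    (ModuleCat.hom_ext (by rw [ModuleCat.hom_ofHom, Extension.CotangentSpace.map_id]; rfl))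

theorem map_comp_map (f : P.Hom Q) (g : Q.Hom P) : NLCx.map f ≫ NLCx.map g = NLCx.map (g.comp f) :=
  ((hasComps_map f).comp (hasComps_map g)).eq (hasComps_map (g.comp f))
    (ModuleCat.hom_ext (LinearMap.ext fun x => by simp [Extension.Cotangent.map_comp]))
    (ModuleCat.hom_ext (LinearMap.ext fun x => by simp [Extension.CotangentSpace.map_comp]))

/-- The map of complexes does not depend on the morphism of extensions, up to homotopy. -/
noncomputable def mapHomotopy (f g : P.Hom P₁) : Homotopy (NLCx.map f) (NLCx.map g) :=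
  (hasComps_map f).homotopy (hasComps_map g) (ModuleCat.ofHom (f.sub g))
    (ModuleCat.hom_ext (Extension.Cotangent.map_sub_map f g))
    (ModuleCat.hom_ext (Extension.CotangentSpace.map_sub_map f g))

end SameTop

theorem bcLiftSp_comp_target (f : P.Hom P') (g : P'.Hom Q') (x : S' ⊗[S] P.CotangentSpace) :
    bcLiftSp (g.comp f) x = Extension.CotangentSpace.map g (bcLiftSp f x) := by
  induction x with
  | zero => simp
  | add x y hx hy => simp only [map_add, hx, hy]
  | tmul s x => simp [Extension.CotangentSpace.map_comp]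

theorem bcMap_comp_map (f : P.Hom P') (g : P'.Hom Q') :
    NLCx.bcMap (S' := S') f ≫ NLCx.map g = NLCx.bcMap (g.comp f) :=
  ((hasComps_bcMap f).comp (hasComps_map g)).eq (hasComps_bcMap (g.comp f))
    (ModuleCat.hom_ext (LinearMap.ext fun x => (bcLift_comp_target f g x).symm))
    (ModuleCat.hom_ext (LinearMap.ext fun x => (bcLiftSp_comp_target f g x).symm))

/-- A morphism which factors through an isomorphism and a homotopy equivalence is a homotopy equivalence. -/
theorem exists_homotopyEquiv (f : P.Hom P') (h : IsIso (NLCx.bcMap (S' := S') f)) (b : P'.Hom Q') (b' : Q'.Hom P')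
    (g : P.Hom Q') : ∃ e : HomotopyEquiv (NLCx.bcCx P S') (NLCx.cx Q'), e.hom = NLCx.bcMap g := by
  let F := NLCx.bcMap (S' := S') f
  let H : Homotopy (NLCx.bcMap (S' := S') g) (F ≫ NLCx.map b) :=
    (bcMapHomotopy g (b.comp f)).trans (Homotopy.ofEq (bcMap_comp_map f b).symm)
  let H₁ : Homotopy (NLCx.map b ≫ NLCx.map b') (𝟙 _) :=
    ((Homotopy.ofEq (map_comp_map b b')).trans (mapHomotopy _ (Extension.Hom.id P'))).trans (Homotopy.ofEq map_id_eq)
  let H₂ : Homotopy (NLCx.map b' ≫ NLCx.map b) (𝟙 _) :=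
    ((Homotopy.ofEq (map_comp_map b' b)).trans (mapHomotopy _ (Extension.Hom.id Q'))).trans (Homotopy.ofEq map_id_eq)
  refine ⟨{ hom := NLCx.bcMap g, inv := NLCx.map b' ≫ inv F, homotopyHomInvId := ?_, homotopyInvHomId := ?_ }, rfl⟩
  · refine (H.compRight _).trans ((Homotopy.ofEq (by simp only [Category.assoc])).trans
      (((H₁.compLeft F).compRight (inv F)).trans (Homotopy.ofEq (by simp))))
  · refine (H.compLeft _).trans ((Homotopy.ofEq ?_).trans H₂)
    simp only [Category.assoc, IsIso.inv_hom_id_assoc]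

end Groth.Agent.NLBC

namespace Groth.Agent.NLBC

variable {R S R' S' : Type u} [CommRing R] [CommRing S] [CommRing R'] [CommRing S']
  [Algebra R S] [Algebra R' S'] [Algebra R R'] [Algebra S S'] [Algebra R S']
  [IsScalarTower R R' S'] [IsScalarTower R S S'] [Algebra.IsPushout R R' S S']

/-- `NL ⊗ S' → NL'` for the presentations on all elements is a homotopy equivalence when the conormal modules
of the base changed presentation agree. -/
theorem exists_homotopyEquiv_self
    (hb : ∀ G' : Generators R' S' S, ∀ h : ∀ i, G'.val i = algebraMap S S' ((Generators.self R S).val i),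
      Function.Bijective (bcLift (S' := S') (NLCx.sameVarsHom (Generators.self R S) G' h).toExtensionHom)) :
    ∃ e : HomotopyEquiv (NLCx.bcCx (Generators.self R S).toExtension S')
        (NLCx.cx (Generators.self R' S').toExtension), e.hom = NLCx.bcMapSelf R S R' S' := by
  obtain ⟨G', hG'⟩ := exists_generators (R' := R') (S' := S') (Generators.self R S)
  exact exists_homotopyEquiv _ (bcMap_isIso _ (hb G' hG') (bcLiftSp_bijective (Generators.self R S) G' hG'))
    (G'.defaultHom (Generators.self R' S')).toExtensionHom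
    ((Generators.self R' S').defaultHom G').toExtensionHom _

end Groth.Agent.NLBC
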