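import Mathlib
import Groth.Agent.NLBC.CxHom
import Groth.Agent.Synt29.TwoTerm
import Groth.Agent.H9Misc.DRingLBase

/-!
# Derived base change of naive cotangent complexes
-/

set_option autoImplicit false
set_option linter.style.haveILetI false
set_option backward.isDefEq.respectTransparency.types false

universe u

open TensorProduct CategoryTheory CategoryTheory.Limits HomologicalComplex

attribute [local instance] HasDerivedCategory.standard

namespace Groth.Agent.NLBC

theorem nonempty_extend_double {B B' : Type u} [CommRing B] [CommRing B'] [i : Algebra B B'] {M N : Type u}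
    [AddCommGroup M] [Module B M] [AddCommGroup N] [Module B N] (d : M →ₗ[B] N) :
    Nonempty ((H9Misc.DRingLTensor.extC' (algebraMap B B')).obj (double (ModuleCat.ofHom d) relNegOne) ≅
      double (ModuleCat.ofHom (d.baseChange B')) relNegOne) := by
  have he : (algebraMap B B').toAlgebra = i := Algebra.algebra_ext _ _ fun _ => rfl
  generalize algebraMap B B' = φ at he
  subst he
  letI := φ.toAlgebra
  let F := ModuleCat.extendScalars.{u, u, u} φ
  let K := (H9Misc.DRingLTensor.extC' φ).obj (double (ModuleCat.ofHom d) relNegOne)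
  let a₀ : ModuleCat.of B' (B' ⊗[B] M) ⟶ K.X (-1) := F.map (doubleXIso₀ (ModuleCat.ofHom d) relNegOne).inv
  let a₁ : ModuleCat.of B' (B' ⊗[B] N) ⟶ K.X 0 := F.map (doubleXIso₁ (ModuleCat.ofHom d) relNegOne (by decide)).inv
  let ψ : double (ModuleCat.ofHom (d.baseChange B')) relNegOne ⟶ K :=
    mkHomFromDouble _ (by decide) a₀ a₁
      (by
        show F.map _ ≫ F.map ((double (ModuleCat.ofHom d) relNegOne).d (-1) 0) = _
        rw [← F.map_comp, double_d _ _ (by decide), Iso.inv_hom_id_assoc, F.map_comp]
        rfl)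
      (fun k hk => (F.map_isZero (isZero_double_X _ _ k (by simp at hk; omega) (by simp at hk; omega))).eq_of_tgt _ _)
  haveI : ∀ j, IsIso (ψ.f j) := fun j => by
    by_cases h : j = -1
    · subst h
      haveI : IsIso a₀ := inferInstanceAs (IsIso (F.map _))
      rw [show ψ.f (-1) = _ ≫ a₀ from mkHomFromDouble_f₀ ..]
      infer_instance
    by_cases h' : j = 0
    · subst h'
      haveI : IsIso a₁ := inferInstanceAs (IsIso (F.map _))
      rw [show ψ.f 0 = _ ≫ a₁ from mkHomFromDouble_f₁ ..]
      infer_instance
    exact ⟨0, (isZero_double_X _ _ j h h').eq_of_src _ _,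
      (F.map_isZero (isZero_double_X _ _ j h h')).eq_of_src _ _⟩
  haveI : IsIso ψ := HomologicalComplex.Hom.isIso_of_components ψ
  exact ⟨(asIso ψ).symm⟩

open Algebra

variable {R S R' S' : Type u} [CommRing R] [CommRing S] [CommRing R'] [CommRing S']
  [Algebra R S] [Algebra R' S'] [Algebra R R'] [Algebra S S'] [Algebra R S']
  [IsScalarTower R R' S'] [IsScalarTower R S S'] [Algebra.IsPushout R R' S S'] [Module.Flat R S]

theorem quasiIso_bcMapSelf : QuasiIso (NLCx.bcMapSelf R S R' S') := by
  obtain ⟨e, he⟩ := exists_homotopyEquiv_self (R := R) (S := S) (R' := R') (S' := S') fun G' h =>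
    bcLift_bijective_of_flat _ G' h
  rw [← he]
  infer_instance

theorem nonempty_lbase_nl (hamp : DRing.HasTorAmplitudeIn S (-1) 0 (LCI.NL R S))
    [DRing.HasLBaseChange (algebraMap S S')] :
    Nonempty ((DRing.LBaseChange (algebraMap S S')).obj (LCI.NL R S) ≅ LCI.NL R' S') := by
  let G := Generators.self R S
  let d := G.toExtension.cotangentComplex
  let K : DRing.Cx S := double (ModuleCat.ofHom d) relNegOne
  have hz : DRing.VanishesOutside K (-1) 0 := fun i hi => isZero_double_X _ _ i (by omega) (by omega)
  let e₁ := (doubleXIso₁ (ModuleCat.ofHom d) relNegOne (by decide)).toLinearEquiv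
  haveI : Module.Projective S (K.X 0) := Module.Projective.of_equiv e₁.symm
  haveI h1 : Module.Flat S (K.X (-1)) := Synt29.flat_of_hasTorAmplitudeIn hz hamp
  have hflat : DRing.TermwiseFlat K := fun i => by
    by_cases h : i = -1
    · subst h; exact h1
    by_cases h' : i = 0
    · subst h'; infer_instance
    haveI := ModuleCat.subsingleton_of_isZero (isZero_double_X (ModuleCat.ofHom d) relNegOne i h h')
    infer_instance
  obtain ⟨e⟩ := H9Misc.DRingLBase.nonempty_lbase_iso (algebraMap S S') (K := K)
    (H9Misc.DRingTor.isKF_of_flat hflat fun i hi => hz i (Or.inr hi))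
  obtain ⟨e'⟩ := nonempty_extend_double (B' := S') d
  haveI := quasiIso_bcMapSelf (R := R) (S := S) (R' := R') (S' := S')
  have hiso : IsIso (DerivedCategory.Q.map (NLCx.bcMapSelf R S R' S')) :=
    (DerivedCategory.isIso_Q_map_iff_quasiIso _ _).2 inferInstance
  exact ⟨e ≪≫ DerivedCategory.Q.mapIso e' ≪≫ @asIso _ _ _ _ _ hiso⟩

end Groth.Agent.NLBC
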